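import Cfsg.Agent.WreathS.Main
import Cfsg.Agent.WreathMax.Transfer
import Cfsg.Agent.Lib.Forms.Sesq

/-!
From a symplectic form on the factor to the model with an involution and signs (helper56).
-/

set_option autoImplicit false
set_option linter.unusedSectionVars false

namespace Cfsg.Agent.WreathS

open Matrix Cfsg.Agent.MaxSub Cfsg.Agent.MaxSub.Asch Cfsg.Agent.FG75.SpinTensor Cfsg.Agent.WreathMax

variable {F : Type*} [Field F] {k t : ℕ}

/-- The Gram matrix of a signed involution. -/
def gramS (π : Sgn F (Fin k)) : Matrix (Fin k) (Fin k) F :=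
  Matrix.of fun a b => if b = π.J a then π.ε a else 0

theorem gramS_det (π : Sgn F (Fin k)) : (gramS π).det ≠ 0 := by
  have h : gramS π * (gramS π)ᵀ = 1 := by
    ext a b
    rw [Matrix.mul_apply, Finset.sum_eq_single (π.J a)]
    · rcases eq_or_ne a b with rfl | hab
      · simp [gramS, π.ε_sq]
      · simp [gramS, hab]
    · intro c _ hc; simp [gramS, hc]
    · simp
  intro h0
  have := congrArg Matrix.det h
  rw [Matrix.det_mul, h0, zero_mul, Matrix.det_one] at this
  exact zero_ne_one this

theorem form_gramS (π : Sgn F (Fin k)) (x y : (Fin t → Fin k) → F) :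
    x ⬝ᵥ (tens (fun _ : Fin t => gramS π) *ᵥ y) = bf (powS π t) x y := by
  rw [bf, dotProduct_comm]
  congr 1
  funext z
  rw [Matrix.mulVec, dotProduct, Finset.sum_eq_single ((powS π t).J z)]
  · rw [tens_apply, Finset.prod_congr rfl fun i _ =>
      show gramS π (z i) ((powS π t).J z i) = π.ε (z i) by simp [gramS, powS_apply]]
    rfl
  · intro z' _ hz'
    obtain ⟨i, hi⟩ := Function.ne_iff.mp hz'
    rw [tens_apply, Finset.prod_eq_zero (Finset.mem_univ i) (by
      simp [gramS, powS_apply] at hi ⊢; exact fun e => absurd e hi), zero_mul]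
  · simp

/-- A symplectic form has the Gram matrix of a signed involution in some basis. -/
theorem exists_sgn (two : (2 : F) ≠ 0) {f₁ : (Fin k → F) → (Fin k → F) → F} (hf : Geo.IsSymplecticForm f₁) :
    ∃ π : Sgn F (Fin k), π.Alt ∧ ∃ col : Fin k → Fin k → F, ∀ a b, f₁ (col a) (col b) = gramS π a b := by
  classical
  let B : LinearMap.BilinForm F (Fin k → F) :=
    LinearMap.mk₂ F f₁ hf.bilinear.add_left (fun c x y => hf.bilinear.smul_left c x y) hf.bilinear.add_right
      (fun c x y => hf.bilinear.smul_right c x y)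
  obtain ⟨m, r, b, hef, hee, hff, hrad⟩ := Forms.exists_symplectic_basis_with_radical B fun x => hf.alternating x
  have hr : r = 0 := by
    rcases Nat.eq_zero_or_pos r with h | h
    · exact h
    exfalso
    obtain ⟨-, ⟨y, hy⟩⟩ := hf.nondegenerate _ (b.ne_zero (Sum.inr ⟨0, h⟩))
    exact hy (hrad ⟨0, h⟩ y)
  subst hr
  have hcard : Fintype.card (Fin m ⊕ Fin m) = k := by
    have h := Module.finrank_eq_card_basis b
    rw [Module.finrank_fintype_fun_eq_card, Fintype.card_fin] at h
    simpa using h.symm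
  let e : (Fin m ⊕ Fin m) ≃ Fin k := Fintype.equivFinOfCardEq hcard
  let π : Sgn F (Fin k) :=
    { J := e.symm.trans ((Equiv.sumComm (Fin m) (Fin m)).trans e)
      inv := fun a => by
        obtain ⟨z, rfl⟩ := e.surjective a
        cases z <;> simp
      ε := fun a => Sum.elim (fun _ => 1) (fun _ => -1) (e.symm a)
      τ := -1
      ε_sq := fun a => by
        obtain ⟨z, rfl⟩ := e.surjective a
        cases z <;> simp
      τ_sq := by simp
      ε_J := fun a => by
        obtain ⟨z, rfl⟩ := e.surjective a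
        cases z <;> simp }
  refine ⟨π, ⟨rfl, two⟩, fun a => b (Sum.inl (e.symm a)), fun a c => ?_⟩
  obtain ⟨za, rfl⟩ := e.surjective a
  obtain ⟨zc, rfl⟩ := e.surjective c
  simp only [Equiv.symm_apply_apply]
  show B _ _ = _
  rcases za with i | i <;> rcases zc with j | j
  · rw [hee]; simp [gramS, π]
  · rw [hef]; simp [gramS, π, eq_comm]
  · show f₁ _ _ = _
    rw [hf.skew, show f₁ (b (Sum.inl (Sum.inl j))) (b (Sum.inl (Sum.inr i))) = _ from hef j i]
    by_cases h : j = i <;> simp [gramS, π, h]
  · rw [hff]; simp [gramS, π]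

/-- A transvection at a pure tensor is outside the stabiliser. -/
theorem not_le_wreath [Finite F] {π : Sgn F (Fin k)} (hπ : π.Alt) (hk : 2 ≤ k) (ht : Odd t) (ht2 : 2 ≤ t) :
    ¬ U (powS π t) ≤ Geo.tensorWreathStandard k t F := by
  intro hle
  haveI : Nonempty (Fin k) := ⟨⟨0, by omega⟩⟩
  let o : Fin k → F := Pi.single ⟨0, by omega⟩ 1
  have ho : o ≠ 0 := fun e => by simpa [o] using congrFun e ⟨0, by omega⟩
  have hF := powS_alt hπ ht
  set E : Fin t → Matrix (Fin k) (Fin k) F := fun _ => rk π o o
  have hval : (st (bf (powS π t)) (pv fun _ => o) 1).val = 1 + tens E := by rw [st_coe hF, one_smul, rk_pv]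
  have hEE : tens E * tens E = 0 := by
    rw [tens_mul]; exact tens_eq_zero (l := ⟨0, by omega⟩) (hπ.rk_sq o)
  obtain ⟨i, B, hB⟩ := slot_of_sq hk (by omega) hπ.two (hle (st_mem_isom hF.form (pv fun _ => o) 1))
    (by rw [hval, add_sub_cancel_left, hEE])
  obtain ⟨j, hj⟩ : ∃ j : Fin t, j ≠ i := by
    haveI : Nontrivial (Fin t) := Fin.nontrivial_iff_two_le.mpr ht2
    exact exists_ne i
  have hX : tens E = slot i (B - 1) := by rw [slot_sub', slot_one', ← hB, hval, add_sub_cancel_left]
  have h0 : slot i (B - 1) * slot j (rk π o o) = 0 := by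
    rw [← hX, tens_mul_slot]
    exact tens_eq_zero (l := j) (by rw [Function.update_self]; exact hπ.rk_sq o)
  rcases eq_zero_slot_pair (by omega) (Ne.symm hj) h0 with h | h
  · rw [h, slot_zero'] at hX
    exact tens_ne_zero (fun _ => rk_self_ne_zero π ho) hX
  · exact rk_self_ne_zero π ho h

end Cfsg.Agent.WreathS
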