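import Cfsg.Agent.WreathS.Slot
import Cfsg.Agent.WreathMax.Stab

/-!
An element carrying root lines of slots into slots lies in the stabiliser; square zero sums of slots lie in one
slot in odd characteristic (helper56).
-/

set_option autoImplicit false
set_option linter.unusedSectionVars false

namespace Cfsg.Agent.WreathS

open Matrix Cfsg.Agent.MaxSub Cfsg.Agent.MaxSub.Asch Cfsg.Agent.FG75.SpinTensor Cfsg.Agent.WreathMax

variable {F : Type*} [Field F] {k t : ℕ}

theorem conjHom_injective {ι : Type} [Fintype ι] [DecidableEq ι] (g : GL ι F) :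
    Function.Injective (conjHom g) := fun X Y e => by
  have := congrArg (conjHom g⁻¹) e
  simpa [conjHom_apply, mul_assoc] using this

/-- A slot mapped into a slot is mapped by a conjugation. -/
theorem exists_conj_of_range (hk : 0 < k) {g : GL (Fin t → Fin k) F} {i j : Fin t}
    (h : ∀ M, conjHom g (slot i M) ∈ (slotHom (F := F) (m := k) j).range) :
    ∃ a : GL (Fin k) F, ∀ M, conjHom g (slot i M) =
      slot j ((a : Matrix (Fin k) (Fin k) F) * M * ((a⁻¹ : GL (Fin k) F) : Matrix (Fin k) (Fin k) F)) := by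
  haveI : Nonempty (Fin k) := ⟨⟨0, hk⟩⟩
  let φe := AlgEquiv.ofInjective (slotHom j) (slot_injective (F := F) hk j)
  let ψ : Matrix (Fin k) (Fin k) F →ₐ[F] Matrix (Fin k) (Fin k) F :=
    φe.symm.toAlgHom.comp (AlgHom.codRestrict ((conjHom g).comp (slotHom i)) (slotHom j).range h)
  obtain ⟨a, ha⟩ := exists_conj ψ
  refine ⟨a, fun M => ?_⟩
  rw [← ha]
  exact (congrArg Subtype.val (φe.apply_symm_apply ⟨conjHom g (slot i M), h M⟩)).symm

/-- Different slots go to different slots. -/
theorem target_injective (hk : 2 ≤ k) {g : GL (Fin t → Fin k) F} {i i' j : Fin t} (hne : i ≠ i')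
    (h : ∀ M, conjHom g (slot i M) ∈ (slotHom (F := F) (m := k) j).range)
    (h' : ∀ M, conjHom g (slot i' M) ∈ (slotHom (F := F) (m := k) j).range) : False := by
  obtain ⟨a, ha⟩ := exists_conj_of_range (by omega) h
  obtain ⟨b, hb⟩ := exists_conj_of_range (by omega) h'
  let p : Fin k := ⟨0, by omega⟩
  let q : Fin k := ⟨1, by omega⟩
  set X := (b : Matrix (Fin k) (Fin k) F) * Matrix.single p q 1 * ((b⁻¹ : GL (Fin k) F) : Matrix (Fin k) (Fin k) F) with hX
  obtain ⟨c, hc⟩ := Matrix.mem_range_scalar_of_commute_single (M := X) fun u v _ => by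
    have h1 := congrArg (conjHom g) (slot_comm hne
      (((a⁻¹ : GL (Fin k) F) : Matrix (Fin k) (Fin k) F) * Matrix.single u v 1 * (a : Matrix (Fin k) (Fin k) F))
      (Matrix.single p q (1 : F)))
    rw [map_mul, map_mul, ha, hb, ← slot_mul', ← slot_mul'] at h1
    simp only [mul_assoc, Units.mul_inv, mul_one, Units.mul_inv_cancel_left] at h1
    have h2 := slot_injective (by omega) j h1
    show _ = _
    simpa [X, mul_assoc] using h2
  refine single_not_scalar (show p ≠ q by simp [p, q, Fin.ext_iff]) c (slot_eq_smul_one (i := i') (by omega)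
    (conjHom_injective g ?_))
  rw [hb, ← hX, ← hc, Matrix.scalar_apply, ← Matrix.smul_one_eq_diagonal, slot_smul_one, map_smul, map_one]

/-- Slots mapped into slots: the element lies in the stabiliser. -/
theorem mem_wreath_of_ranges (hk : 2 ≤ k) (ht : 1 ≤ t) (g : GL (Fin t → Fin k) F) (σ : Fin t → Fin t)
    (hrange : ∀ i M, conjHom g (slot i M) ∈ (slotHom (F := F) (m := k) (σ i)).range) :
    g ∈ Geo.tensorWreathStandard k t F := by
  classical
  have hσ : Function.Injective σ := fun i i' e => by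
    by_contra hne
    exact target_injective hk hne (hrange i) (by rw [e]; exact hrange i')
  choose a ha using fun i => exists_conj_of_range (show 0 < k by omega) (hrange i)
  let σe : Equiv.Perm (Fin t) := Equiv.ofBijective σ (Finite.injective_iff_bijective.mp hσ)
  let b : Fin t → GL (Fin k) F := fun j => a (σe.symm j)
  let W : GL (Fin t → Fin k) F := tensGL b * factorPerm σe
  have hW : ∀ i M, conjHom W (slot i M) = conjHom g (slot i M) := by
    intro i M
    rw [ha, slot_conj_wreath]
    simp [b, σe]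
  obtain ⟨c, hc⟩ := slot_centraliser (T := ((W⁻¹ * g : GL (Fin t → Fin k) F) : Matrix _ _ F)) fun i M => by
    have h1 := hW i M
    rw [conjHom_apply, conjHom_apply] at h1
    have h2 := congrArg (fun X => ((W⁻¹ : GL (Fin t → Fin k) F) : Matrix _ _ F) * X * (g : Matrix _ _ F)) h1
    simp only [mul_assoc, Units.inv_mul, mul_one, Units.inv_mul_cancel_left] at h2
    show ((W⁻¹ * g : GL (Fin t → Fin k) F) : Matrix _ _ F) * slot i M =
      slot i M * ((W⁻¹ * g : GL (Fin t → Fin k) F) : Matrix _ _ F)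
    simp only [Units.val_mul, mul_assoc]
    exact h2.symm
  haveI : Nonempty (Fin k) := ⟨⟨0, by omega⟩⟩
  have hc0 : c ≠ 0 := by
    rintro rfl
    rw [zero_smul] at hc
    exact (W⁻¹ * g).ne_zero hc
  let z : GL (Fin k) F := Units.map (algebraMap F (Matrix (Fin k) (Fin k) F) : F →* Matrix (Fin k) (Fin k) F)
    (Units.mk0 c hc0)
  have hz : W⁻¹ * g = slotU ⟨0, by omega⟩ z := by
    refine Units.ext ?_
    rw [hc, slotU_coe, show (z : Matrix (Fin k) (Fin k) F) = c • 1 from Algebra.algebraMap_eq_smul_one c,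
      slot_smul_one]
  rw [show g = W * slotU ⟨0, by omega⟩ z from by rw [← hz, mul_inv_cancel_left]]
  exact mul_mem (mul_mem (tensGL_mem _) (factorPerm_mem _)) (slotU_mem _ _)

variable {π : Sgn F (Fin k)}

theorem exists_common (hπ : π.Alt) {x y : Fin k → F} (hx : x ≠ 0) (hy : y ≠ 0) :
    ∃ z, bf π x z ≠ 0 ∧ bf π y z ≠ 0 := by
  obtain ⟨a, ha⟩ := exists_right_eq_one π hx
  obtain ⟨b, hb⟩ := exists_right_eq_one π hy
  by_cases h1 : bf π y a = 0
  · by_cases h2 : bf π x b = 0
    · exact ⟨a + b, by rw [bf_add_right, ha, h2, add_zero]; exact one_ne_zero,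
        by rw [bf_add_right, hb, h1, zero_add]; exact one_ne_zero⟩
    · exact ⟨b, h2, by rw [hb]; exact one_ne_zero⟩
  · exact ⟨a, by rw [ha]; exact one_ne_zero, h1⟩

/-- The root lines of a slot going to slots go to one slot, and so does the slot. -/
theorem range_of_roots (hπ : π.Alt) (hk : 0 < k) {g : GL (Fin t → Fin k) F} {i : Fin t}
    (h : ∀ x, x ≠ 0 → ∃ j B, conjHom g (slot i (rk π x x)) = slot j B) :
    ∃ j, ∀ M, conjHom g (slot i M) ∈ (slotHom (F := F) (m := k) j).range := by
  choose τ B hB using h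
  have hstep : ∀ x y (hx : x ≠ 0) (hy : y ≠ 0), bf π x y ≠ 0 → τ x hx = τ y hy := by
    intro x y hx hy hxy
    by_contra hne
    have hcom : conjHom g (slot i (rk π x x)) * conjHom g (slot i (rk π y y)) =
        conjHom g (slot i (rk π y y)) * conjHom g (slot i (rk π x x)) := by
      rw [hB x hx, hB y hy]; exact slot_comm hne _ _
    rw [← map_mul, ← map_mul, ← slot_mul', ← slot_mul', rk_mul, rk_mul] at hcom
    have h1 := congrArg (fun X => X *ᵥ x) (slot_injective hk i (conjHom_injective g hcom))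
    simp only [smul_mulVec, rk_mulVec, hπ.self, zero_smul, smul_zero, hπ.skew y x, smul_smul] at h1
    rw [neg_mul, neg_smul] at h1
    exact smul_ne_zero (mul_ne_zero hxy hxy) hx (neg_eq_zero.mp (by simpa using h1.symm))
  have hall : ∀ x y (hx : x ≠ 0) (hy : y ≠ 0), τ x hx = τ y hy := by
    intro x y hx hy
    obtain ⟨z, hxz, hyz⟩ := exists_common hπ hx hy
    have hz : z ≠ 0 := fun e => hxz (by rw [e, bf_zero_right])
    exact (hstep x z hx hz hxz).trans (hstep y z hy hz hyz).symm
  let x₀ : Fin k → F := Pi.single ⟨0, hk⟩ 1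
  have hx₀ : x₀ ≠ 0 := fun e => by simpa [x₀] using congrFun e ⟨0, hk⟩
  refine ⟨τ x₀ hx₀, fun M => ?_⟩
  let S : Subalgebra F (Matrix (Fin k) (Fin k) F) :=
    ((slotHom (τ x₀ hx₀)).range).comap ((conjHom g).comp (slotHom i))
  have hsq : ∀ x, rk π x x ∈ S := by
    intro x
    by_cases hx : x = 0
    · rw [hx, rk_zero_left]; exact S.zero_mem
    show conjHom g (slot i (rk π x x)) ∈ (slotHom (τ x₀ hx₀)).range
    rw [hB x hx, hall x x₀ hx hx₀]
    exact ⟨_, rfl⟩
  have hnon : ∀ x y, bf π y x ≠ 0 → rk π y x ∈ S := by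
    intro x y hxy
    have hxy' : bf π x y ≠ 0 := fun e => hxy (bf_eq_zero_comm π e)
    have := S.smul_mem (S.mul_mem (hsq y) (hsq x)) (bf π x y)⁻¹
    rwa [rk_mul, smul_smul, inv_mul_cancel₀ hxy', one_smul] at this
  have hrk : ∀ x y, rk π x y ∈ S := by
    intro x y
    by_cases hxy : bf π x y ≠ 0
    · exact hnon _ _ hxy
    rw [not_not] at hxy
    by_cases hx : x = 0
    · rw [hx, rk_zero_left]; exact S.zero_mem
    obtain ⟨z, hz⟩ := exists_right_eq_one π hx
    have h1 := S.sub_mem (hnon (y + z) x (by rw [bf_add_right, hxy, hz, zero_add]; exact one_ne_zero))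
      (hnon z x (by rw [hz]; exact one_ne_zero))
    rwa [rk_add_right, add_sub_cancel_right] at h1
  show M ∈ S
  rw [Matrix.matrix_eq_sum_single M]
  refine sum_mem fun a _ => sum_mem fun b _ => ?_
  have := S.smul_mem (hrk (Pi.single a 1) (Pi.single (π.J b) (π.ε b))) (M a b)
  rw [show rk π (Pi.single a 1) (Pi.single (π.J b) (π.ε b)) = Matrix.single a b (1 : F) by
    ext c d
    rw [rk, vecMulVec_apply, cv, Pi.single_apply, Pi.single_apply, Matrix.single_apply]
    by_cases hc : c = a <;> by_cases hd : d = b <;> simp [hc, hd, π.ε_sq, Ne.symm, π.J.injective.eq_iff]] at this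
  rwa [Matrix.smul_single, smul_eq_mul, mul_one] at this

theorem eq_zero_slot_pair (hk : 0 < k) {i j : Fin t} (hij : i ≠ j) {A B : Matrix (Fin k) (Fin k) F}
    (h : slot i A * slot j B = 0) : A = 0 ∨ B = 0 := by
  classical
  haveI : Nonempty (Fin k) := ⟨⟨0, hk⟩⟩
  by_contra hc
  push Not at hc
  rw [slot, slot, tens_mul] at h
  refine tens_ne_zero (fun l => ?_) h
  show Function.update (1 : Fin t → Matrix (Fin k) (Fin k) F) i A l *
    Function.update (1 : Fin t → Matrix (Fin k) (Fin k) F) j B l ≠ 0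
  rcases eq_or_ne l i with rfl | hl
  · rw [Function.update_self, Function.update_of_ne hij, Pi.one_apply, mul_one]; exact hc.1
  · rw [Function.update_of_ne hl, Pi.one_apply, one_mul]
    rcases eq_or_ne l j with rfl | hl'
    · rw [Function.update_self]; exact hc.2
    · rw [Function.update_of_ne hl', Pi.one_apply]; exact one_ne_zero

theorem exists_bf_mulVec_ne {A : Matrix (Fin k) (Fin k) F} (hA : ∀ c : F, A ≠ c • 1) :
    ∃ x y, bf π x y = 0 ∧ bf π (A *ᵥ x) y ≠ 0 := by
  by_contra hcon
  push Not at hcon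
  have heig : ∀ x, x ≠ 0 → ∃ c : F, A *ᵥ x = c • x := by
    intro x hx
    obtain ⟨z, hz⟩ := exists_right_eq_one π hx
    refine ⟨bf π (A *ᵥ x) z, ?_⟩
    by_contra hne
    obtain ⟨y, hy⟩ := exists_right_eq_one π (sub_ne_zero.mpr hne)
    have h1 := hcon x (y - bf π x y • z) (by rw [bf_sub_right, bf_smul_right, hz, mul_one, sub_self])
    rw [bf_sub_left, bf_smul_left] at hy
    rw [bf_sub_right, bf_smul_right] at h1
    exact one_ne_zero (α := F) (by linear_combination h1 - hy)
  choose c hc using heig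
  have hsingle : ∀ a : Fin k, (Pi.single a 1 : Fin k → F) ≠ 0 := fun a e => by simpa using congrFun e a
  have hcol : ∀ a b, A b a = if b = a then c _ (hsingle a) else 0 := fun a b => by
    have h1 := congrFun (hc _ (hsingle a)) b
    simp only [mulVec_single, Pi.smul_apply, Pi.single_apply, smul_eq_mul, mul_ite, mul_one, mul_zero] at h1
    simpa using h1
  rcases Nat.eq_zero_or_pos k with rfl | hk
  · exact hA 0 (Matrix.ext fun a => a.elim0)
  refine hA (c _ (hsingle ⟨0, hk⟩)) (Matrix.ext fun b a => ?_)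
  rw [hcol, Matrix.smul_apply, Matrix.one_apply, smul_eq_mul, mul_ite, mul_one, mul_zero]
  by_cases hba : b = a
  · rw [if_pos hba, if_pos hba]
    rcases eq_or_ne a ⟨0, hk⟩ with rfl | ha
    · rfl
    set e₀ : Fin k → F := Pi.single ⟨0, hk⟩ 1
    set e₁ : Fin k → F := Pi.single a 1
    have hs : e₁ + e₀ ≠ 0 := fun e => by simpa [e₀, e₁, ha] using congrFun e a
    have h1 := hc _ hs
    rw [mulVec_add, hc _ (hsingle a), hc _ (hsingle ⟨0, hk⟩)] at h1
    have ea := congrFun h1 a
    have e0 := congrFun h1 ⟨0, hk⟩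
    simp [e₀, e₁, ha, Ne.symm ha] at ea e0
    rw [ea, e0]
  · rw [if_neg hba, if_neg hba]

/-- A sum of slots with square zero lies in one slot. -/
theorem slot_of_sum_sq (hk : 0 < k) (ht : 1 ≤ t) (two : (2 : F) ≠ 0) (hπ : π.Alt) (A : Fin t → Matrix (Fin k) (Fin k) F)
    (h : (∑ l, slot l (A l)) * (∑ l, slot l (A l)) = 0) : ∃ j B, ∑ l, slot l (A l) = slot j B := by
  classical
  obtain ⟨i₀, hi₀⟩ : ∃ i, ∀ j, j ≠ i → ∃ c : F, A j = c • 1 := by
    by_cases hall : ∀ j, ∃ c : F, A j = c • 1
    · exact ⟨⟨0, ht⟩, fun j _ => hall j⟩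
    push Not at hall
    obtain ⟨i, hi⟩ := hall
    refine ⟨i, fun j hji => ?_⟩
    by_contra hj
    push Not at hj
    obtain ⟨x, y, hxy, hA⟩ := exists_bf_mulVec_ne (π := π) hi
    obtain ⟨x', y', hxy', hB⟩ := exists_bf_mulVec_ne (π := π) hj
    let p : Fin k → F := Pi.single ⟨0, hk⟩ 1
    have hp : p ≠ 0 := fun e => by simpa [p] using congrFun e ⟨0, hk⟩
    set R := ∑ l ∈ (Finset.univ.erase i).erase j, slot l (A l)
    set a := slot i (A i)
    set b := slot j (A j)
    have hsum : ∑ l, slot l (A l) = a + b + R := by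
      rw [← Finset.add_sum_erase Finset.univ _ (Finset.mem_univ i),
        ← Finset.add_sum_erase (Finset.univ.erase i) _ (show j ∈ Finset.univ.erase i by simp [hji]), add_assoc]
    let S : Fin t → (Fin k → F) → (Fin k → F) → Matrix (Fin t → Fin k) (Fin t → Fin k) F →
        Matrix (Fin t → Fin k) (Fin t → Fin k) F := fun l u v X => slot l (rk π p v) * X * slot l (rk π u p)
    have hkill : ∀ l u v X, bf π u v = 0 → (∀ M, Commute (slot l M) X) → S l u v X = 0 := by
      intro l u v X huv hX
      simp only [S]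
      rw [(hX _).eq, mul_assoc, ← slot_mul', rk_mul, huv, zero_smul, slot_zero', mul_zero]
    have hR : ∀ l, l = i ∨ l = j → ∀ M, Commute (slot l M) R := fun l hl M => Commute.sum_right _ _ _ fun r hr => by
      simp only [Finset.mem_erase] at hr
      refine slot_comm ?_ _ _
      rcases hl with rfl | rfl
      · exact Ne.symm hr.2.1
      · exact Ne.symm hr.1
    have ha' : ∀ M, Commute (slot j M) a := fun M => slot_comm hji _ _
    have hb' : ∀ M, Commute (slot i M) b := fun M => slot_comm (Ne.symm hji) _ _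
    have hcm : ∀ M M' : Matrix (Fin k) (Fin k) F, Commute (slot i M) (slot j M') := fun M M' => by show _ * _ = _ * _; exact slot_comm (Ne.symm hji) M M'
    have hSS : ∀ X, (∀ M, Commute (slot j M) X) ∨ (∀ M, Commute (slot i M) X) → S i x y (S j x' y' X) = 0 := by
      rintro X (hX | hX)
      · rw [hkill j x' y' X hxy' hX]; simp [S]
      · refine hkill i x y _ hxy fun M => ?_
        exact ((hcm M _).mul_right (hX M)).mul_right (hcm M _)
    have hsq : (a + b + R) * (a + b + R) =
        (a * a + R * R + a * R + R * a) + (b * b + b * R + R * b) + (2 : F) • (a * b) := by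
      rw [two_smul]
      have hba : b * a = a * b := slot_comm hji _ _
      simp only [add_mul, mul_add, hba]
      abel
    have hadd : ∀ X Y, S i x y (S j x' y' (X + Y)) = S i x y (S j x' y' X) + S i x y (S j x' y' Y) := fun X Y => by
      simp [S, mul_add, add_mul]
    rw [hsum, hsq] at h
    have h1 := congrArg (fun X => S i x y (S j x' y' X)) h
    simp only [hadd] at h1
    rw [hSS (a * a) (Or.inl fun M => (ha' M).mul_right (ha' M)),
      hSS (R * R) (Or.inl fun M => (hR j (Or.inr rfl) M).mul_right (hR j (Or.inr rfl) M)),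
      hSS (a * R) (Or.inl fun M => (ha' M).mul_right (hR j (Or.inr rfl) M)),
      hSS (R * a) (Or.inl fun M => (hR j (Or.inr rfl) M).mul_right (ha' M)),
      hSS (b * b) (Or.inr fun M => (hb' M).mul_right (hb' M)),
      hSS (b * R) (Or.inr fun M => (hb' M).mul_right (hR i (Or.inl rfl) M)),
      hSS (R * b) (Or.inr fun M => (hR i (Or.inl rfl) M).mul_right (hb' M))] at h1
    simp only [add_zero, zero_add, S, mul_zero, zero_mul, mul_smul_comm, smul_mul_assoc] at h1
    have e : slot i (rk π p y) * (slot j (rk π p y') * (a * b) * slot j (rk π x' p)) * slot i (rk π x p) =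
        (bf π (A i *ᵥ x) y * bf π (A j *ᵥ x') y') • (slot i (rk π p p) * slot j (rk π p p)) := by
      have e1 : slot j (rk π p y') * (a * b) * slot j (rk π x' p) = a * (slot j (rk π p y' * A j * rk π x' p)) := by
        rw [slot_mul', slot_mul', ← mul_assoc (slot j (rk π p y')) a b, (ha' (rk π p y')).eq]
        simp only [b, mul_assoc]
      rw [e1, ← mul_assoc (slot i _) a, mul_assoc (_ * a), ← (hcm (rk π x p) _).eq, ← mul_assoc,
        ← slot_mul', ← slot_mul', mul_assoc (rk π p y) (A i), mul_rk, rk_mul, mul_assoc (rk π p y') (A j), mul_rk,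
        rk_mul, slot_smul', slot_smul', smul_mul_smul_comm]
    rw [e, smul_smul, smul_eq_zero] at h1
    refine (h1.resolve_left (mul_ne_zero two (mul_ne_zero hA hB))) |> fun h0 => ?_
    have h2 := eq_zero_slot_pair hk (Ne.symm hji) h0
    rcases h2 with h2 | h2 <;> exact rk_self_ne_zero π hp h2
  choose c hc using hi₀
  refine ⟨i₀, A i₀ + (∑ l, if hl : l = i₀ then 0 else c l hl) • 1, ?_⟩
  rw [slot_add', slot_smul_one, Finset.sum_smul, ← Finset.add_sum_erase Finset.univ _ (Finset.mem_univ i₀),
    ← Finset.add_sum_erase Finset.univ (fun l => (if hl : l = i₀ then 0 else c l hl) • (1 : Matrix _ _ F))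
      (Finset.mem_univ i₀), dif_pos rfl, zero_smul, zero_add]
  congr 1
  refine Finset.sum_congr rfl fun l hl => ?_
  rw [dif_neg (Finset.ne_of_mem_erase hl)]
  conv_lhs => rw [hc l (Finset.ne_of_mem_erase hl), slot_smul_one]

end Cfsg.Agent.WreathS
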