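import Cfsg.Agent.WreathS.Centre
import Cfsg.Agent.WreathS.Span
import Cfsg.Agent.WreathMax.Average

/-!
Overgroups in which the root elements of the slots fix only the base coset (helper56).
-/

set_option autoImplicit false
set_option linter.unusedSectionVars false

namespace Cfsg.Agent.WreathS

open Matrix Cfsg.Agent.MaxSub Cfsg.Agent.MaxSub.Asch Cfsg.Agent.FG75.SpinTensor Cfsg.Agent.WreathMax

variable {F : Type*} [Field F] {k t : ℕ} {π : Sgn F (Fin k)}

/-- No root of a slot is conjugated into the stabiliser from outside. -/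
def Moves (π : Sgn F (Fin k)) (H : Subgroup (GL (Fin t → Fin k) F)) : Prop :=
  ∀ g ∈ H, g ∉ Geo.tensorWreathStandard k t F → ∀ i x (c : F), x ≠ 0 → c ≠ 0 →
    g⁻¹ * sRoot π i x c * g ∉ Geo.tensorWreathStandard k t F

theorem sRoot_mul (hπ : π.Alt) (i : Fin t) (x : Fin k → F) (c d : F) :
    sRoot π i x c * sRoot π i x d = sRoot π i x (c + d) := Units.ext (by
  rw [Units.val_mul, sRoot_coe hπ, sRoot_coe hπ, sRoot_coe hπ]
  simp only [mul_add, add_mul, one_mul, mul_one, Matrix.smul_mul, Matrix.mul_smul, ← slot_mul', hπ.rk_sq,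
    slot_zero', smul_zero, add_zero, add_smul, add_assoc])

theorem sRoot_zero (hπ : π.Alt) (i : Fin t) (x : Fin k → F) : sRoot π i x 0 = 1 :=
  Units.ext (by rw [sRoot_coe hπ, zero_smul, add_zero, Units.val_one])

theorem conjHom_sRoot (hπ : π.Alt) (i : Fin t) (x : Fin k → F) (c : F)
    (X : Matrix (Fin t → Fin k) (Fin t → Fin k) F) :
    conjHom (sRoot π i x c) X = X + c • (slot i (rk π x x) * X - X * slot i (rk π x x)) -
      (c * c) • (slot i (rk π x x) * X * slot i (rk π x x)) := by
  have hinv : (sRoot π i x c)⁻¹ = sRoot π i x (-c) :=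
    inv_eq_of_mul_eq_one_right (by rw [sRoot_mul hπ, add_neg_cancel, sRoot_zero hπ])
  rw [conjHom_apply, hinv, sRoot_coe hπ, sRoot_coe hπ]
  simp only [add_mul, mul_add, one_mul, mul_one, Matrix.smul_mul, Matrix.mul_smul, neg_smul, mul_neg, smul_sub,
    smul_neg, smul_smul]
  abel

/-- An even dimension: no slot of dimension three. -/
theorem dim_ne_three (hπ : π.Alt) : k ≠ 3 := by
  intro hk
  subst hk
  have key : ∀ J : Fin 3 → Fin 3, (∀ a, J (J a) = a) → ∃ a, J a = a := by decide
  obtain ⟨a, ha⟩ := key π.J π.inv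
  have h := π.ε_J a
  rw [ha, hπ.tau, neg_one_mul] at h
  have h2 : (2 : F) * π.ε a = 0 := by linear_combination h
  exact one_ne_zero (α := F) (by rw [← π.ε_sq a, (mul_eq_zero.mp h2).resolve_left hπ.two, mul_zero])

variable [Fintype F] {H : Subgroup (GL (Fin t → Fin k) F)}

/-- The defect of the averaged projection. -/
noncomputable def defect (H : Subgroup (GL (Fin t → Fin k) F)) :
    Matrix (Fin t → Fin k) (Fin t → Fin k) F →ₗ[F] Matrix (Fin t → Fin k) (Fin t → Fin k) F := avg H - Phi

theorem two_lt_card (hπ : π.Alt) : 2 < Fintype.card F := by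
  classical
  refine Fintype.two_lt_card_iff.mpr ⟨0, 1, -1, zero_ne_one, fun h => ?_, fun h => ?_⟩
  · exact one_ne_zero (α := F) (by linear_combination h)
  · exact hπ.two (by linear_combination h)

/-- The defect on the fixed matrices of a root group. -/
theorem defect_form (hπ : π.Alt) (hM : ∀ i x (c : F), sRoot π i x c ∈ H) (hmov : Moves π H) (i : Fin t) {x : Fin k → F} (hx0 : x ≠ 0)
    {X : Matrix (Fin t → Fin k) (Fin t → Fin k) F}
    (h1 : slot i (rk π x x) * X = 0) (h2 : X * slot i (rk π x x) = 0) :
    ∃ Y, defect H X = (-∑ c : F, c * c) • (slot i (rk π x x) * Y * slot i (rk π x x)) := by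
  classical
  letI := Fintype.ofFinite (Cosets H)
  set N := slot i (rk π x x) with hN
  let r : F → H := fun c => ⟨sRoot π i x c, hM i x c⟩
  let α : F → Cosets H → Cosets H := fun c q => r c • q
  have hα : ∀ c d q, α c (α d q) = α (c + d) q := fun c d q => by
    show r c • r d • q = r (c + d) • q
    rw [smul_smul]
    congr 1
    exact Subtype.ext (sRoot_mul hπ i x c d)
  have hα0 : ∀ q, α 0 q = q := fun q => by
    show r 0 • q = q
    rw [show r 0 = 1 from Subtype.ext (sRoot_zero hπ i x), one_smul]
  let st : Setoid (Cosets H) :=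
    { r := fun q q' => ∃ c, α c q = q'
      iseqv :=
        ⟨fun q => ⟨0, hα0 q⟩, fun {q q'} ⟨v, hv⟩ => ⟨-v, by rw [← hv, hα, neg_add_cancel, hα0]⟩,
          fun {q q' q''} ⟨v, hv⟩ ⟨w, hw⟩ => ⟨w + v, by rw [← hα, hv, hw]⟩⟩ }
  letI : Fintype (Quotient st) := Fintype.ofFinite _
  set S := Finset.univ.erase (QuotientGroup.mk (1 : H) : Cosets H) with hS
  have hfix : ∀ c q, q ≠ (QuotientGroup.mk 1 : Cosets H) → α c q = q → c = 0 := by
    intro c q hq hcq
    obtain ⟨g, rfl⟩ := QuotientGroup.mk_surjective q
    by_contra hc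
    refine hmov g g.2 (fun h => hq ((mk_eq_one_iff H g).mpr h)) i x c hx0 hc ?_
    change (QuotientGroup.mk (r c * g) : Cosets H) = _ at hcq
    rw [eq_comm, QuotientGroup.eq, Subgroup.mem_subgroupOf] at hcq
    simpa [mul_assoc, r] using hcq
  have hbase : ∀ c, α c (QuotientGroup.mk 1 : Cosets H) = QuotientGroup.mk 1 := fun c => by
    show (QuotientGroup.mk (r c * 1) : Cosets H) = _
    rw [mul_one]
    exact (mk_eq_one_iff H _).mpr (sRoot_mem_wreath i x c)
  have horb : ∀ o : Quotient st, ∃ Y, ∑ q ∈ S.filter (fun q => Quotient.mk st q = o), cosetTwist H q X =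
      ∑ c : F, conjHom (sRoot π i x c) Y := by
    intro o
    by_cases hne : S.filter (fun q => Quotient.mk st q = o) = ∅
    · exact ⟨0, by rw [hne]; simp⟩
    obtain ⟨q₀, hq₀⟩ := Finset.nonempty_iff_ne_empty.mpr hne
    simp only [S, Finset.mem_filter, Finset.mem_erase, Finset.mem_univ, and_true] at hq₀
    obtain ⟨hq₀, rfl⟩ := hq₀
    refine ⟨cosetTwist H q₀ X, ?_⟩
    have himg : S.filter (fun q => Quotient.mk st q = Quotient.mk st q₀) =
        (Finset.univ : Finset F).image fun c => α c q₀ := by
      ext q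
      simp only [S, Finset.mem_filter, Finset.mem_erase, Finset.mem_univ, and_true, Finset.mem_image, true_and]
      constructor
      · rintro ⟨-, hq⟩
        exact Quotient.exact hq.symm
      · rintro ⟨c, rfl⟩
        refine ⟨fun h => hq₀ ?_, (Quotient.sound (show st q₀ (α c q₀) from ⟨c, rfl⟩)).symm⟩
        have h' := congrArg (α (-c)) h
        rwa [hα, neg_add_cancel, hα0, hbase] at h'
    rw [himg, Finset.sum_image fun c _ d _ (h : α c q₀ = α d q₀) => by
      have h' := congrArg (α (-d)) h
      rw [hα, hα, neg_add_cancel, hα0] at h'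
      exact (neg_add_eq_zero.mp (hfix _ _ hq₀ h')).symm]
    refine Finset.sum_congr rfl fun c _ => ?_
    have hfixX : conjHom (sRoot π i x c) X = X := by
      rw [conjHom_sRoot hπ, h1, h2]
      simp
    have h := cosetTwist_smul H (r c) q₀ X
    rw [hfixX] at h
    exact h
  choose Y hY using horb
  refine ⟨∑ o, Y o, ?_⟩
  have e1 : defect H X = ∑ c : F, conjHom (sRoot π i x c) (∑ o, Y o) := by
    rw [defect, LinearMap.sub_apply, avg_sub_Phi, ← hS,
      ← Finset.sum_fiberwise S (fun q => Quotient.mk st q) (fun q => cosetTwist H q X),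
      Finset.sum_congr rfl fun o _ => hY o, Finset.sum_comm]
    simp [map_sum]
  have hsum1 : ∑ c : F, c = 0 := by
    simpa using FiniteField.sum_pow_lt_card_sub_one (K := F) 1 (by have := two_lt_card (F := F) hπ; omega)
  rw [e1]
  simp only [conjHom_sRoot hπ, ← hN, Finset.sum_sub_distrib, Finset.sum_add_distrib, Finset.sum_const,
    Finset.card_univ, ← Finset.sum_smul]
  rw [← Nat.cast_smul_eq_nsmul F, FiniteField.cast_card_eq_zero, zero_smul, hsum1, zero_smul, add_zero, zero_sub,
    neg_smul]

/-- A root line killing a slot of a pure tensor from both sides, or two of them, kill the defect. -/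
theorem defect_eq_zero (hπ : π.Alt) (hk : 0 < k) (hM : ∀ i x (c : F), sRoot π i x c ∈ H) (hmov : Moves π H) (i : Fin t)
    (A : Fin t → Matrix (Fin k) (Fin k) F) {x x' : Fin k → F} (hx0 : x ≠ 0)
    (hx : rk π x x * A i = 0 ∧ A i * rk π x x = 0) (hx' : rk π x' x' * A i = 0 ∧ A i * rk π x' x' = 0)
    (h : 3 < Fintype.card F ∨ ∀ c : F, x' ≠ c • x) : defect H (tens A) = 0 := by
  classical
  have shape : ∀ u, u ≠ 0 → rk π u u * A i = 0 ∧ A i * rk π u u = 0 →
      ∃ Y, defect H (tens A) = (-∑ c : F, c * c) • (slot i (rk π u u) * Y * slot i (rk π u u)) := fun u hu h =>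
    defect_form hπ hM hmov i hu (by rw [slot_mul_tens]; exact tens_eq_zero (l := i) (by rw [Function.update_self, h.1]))
      (by rw [tens_mul_slot]; exact tens_eq_zero (l := i) (by rw [Function.update_self, h.2]))
  obtain ⟨Y, hY⟩ := shape x hx0 hx
  rcases h with hq | hind
  · have hsum2 : ∑ c : F, c * c = 0 := by
      simpa [pow_two] using FiniteField.sum_pow_lt_card_sub_one (K := F) 2 (by omega)
    rw [hY, hsum2, neg_zero, zero_smul]
  have hx'0 : x' ≠ 0 := fun e => hind 0 (by rw [e, zero_smul])
  obtain ⟨Y', hY'⟩ := shape x' hx'0 hx'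
  obtain ⟨z, hz⟩ := exists_right_eq_one π hx0
  have hne : x' - bf π x' z • x ≠ 0 := fun e => hind _ (sub_eq_zero.mp e)
  obtain ⟨u, hu⟩ := exists_right_eq_one π hne
  set y := u - bf π x u • z with hy
  have hxy : bf π x y = 0 := by rw [hy, bf_sub_right, bf_smul_right, hz, mul_one, sub_self]
  have hx'y : bf π x' y = 1 := by
    rw [bf_sub_left, bf_smul_left] at hu
    rw [hy, bf_sub_right, bf_smul_right]
    linear_combination hu
  rw [hY', sandwich]
  suffices h0 : (-∑ c : F, c * c) • contr π i x' x' Y' = 0 by rw [← mul_smul_comm, h0, mul_zero]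
  refine eq_zero_of_slot_mul i (rk_self_ne_zero π hx'0) (fun B => (contr_comm i x' x' Y' B).smul_right _) ?_
  have key := congrArg (fun X => slot i (rk π x' y) * X) (hY.symm.trans hY')
  simp only [mul_smul_comm, ← mul_assoc, ← slot_mul', rk_mul, hxy, zero_smul, slot_zero', zero_mul, smul_zero,
    hx'y, one_smul, WreathS.sandwich] at key
  rw [mul_smul_comm]
  exact key.symm

theorem exists_two_orth (hπ : π.Alt) (hk : 4 ≤ k) (p r : Fin k → F) :
    ∃ x x', x ≠ 0 ∧ (∀ c : F, x' ≠ c • x) ∧ bf π p x = 0 ∧ bf π x r = 0 ∧ bf π p x' = 0 ∧ bf π x' r = 0 := by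
  let φ : (Fin k → F) →ₗ[F] F × F :=
    { toFun := fun x => (bf π p x, bf π x r)
      map_add' := fun a b => Prod.ext (bf_add_right π _ _ _) (bf_add_left π _ _ _)
      map_smul' := fun c a => Prod.ext (bf_smul_right π _ _ _) (bf_smul_left π _ _ _) }
  have h2 : 2 ≤ Module.finrank F (LinearMap.ker φ) := by
    have h1 := φ.finrank_range_add_finrank_ker
    have h3 : Module.finrank F (LinearMap.range φ) ≤ 2 := by
      refine (Submodule.finrank_le _).trans ?_
      rw [Module.finrank_prod, Module.finrank_self]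
    rw [Module.finrank_fintype_fun_eq_card, Fintype.card_fin] at h1
    omega
  have := Module.finrank_pos_iff_exists_ne_zero.mp (show 0 < Module.finrank F (LinearMap.ker φ) by omega)
  obtain ⟨⟨x, hx⟩, hx0⟩ := this
  obtain ⟨x', hx', hind⟩ : ∃ x' ∈ LinearMap.ker φ, x' ∉ F ∙ x := by
    by_contra hc
    push Not at hc
    have h4 := Submodule.finrank_mono (s := LinearMap.ker φ) (t := F ∙ x) hc
    have hx' : x ≠ 0 := fun e => hx0 (Subtype.ext e)
    rw [finrank_span_singleton hx'] at h4
    omega
  simp only [LinearMap.mem_ker, φ, LinearMap.coe_mk, AddHom.coe_mk, Prod.mk_eq_zero] at hx hx'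
  exact ⟨x, x', fun e => hx0 (Subtype.ext e), fun c e => hind (e ▸ Submodule.smul_mem _ _
    (Submodule.mem_span_singleton_self x)), hx.1, hx.2, hx'.1, hx'.2⟩

/-- The span of the slots. -/
noncomputable def slots : Submodule F (Matrix (Fin t → Fin k) (Fin t → Fin k) F) :=
  LinearMap.range (∑ l : Fin t, (slotHom l).toLinearMap ∘ₗ LinearMap.proj l :
    (Fin t → Matrix (Fin k) (Fin k) F) →ₗ[F] Matrix (Fin t → Fin k) (Fin t → Fin k) F)

theorem mem_slots {X : Matrix (Fin t → Fin k) (Fin t → Fin k) F} :
    X ∈ slots (F := F) (k := k) (t := t) ↔ ∃ A : Fin t → Matrix (Fin k) (Fin k) F, ∑ l, slot l (A l) = X := by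
  simp [slots, LinearMap.sum_apply, slotHom_apply]

theorem Phi_mem_slots (X : Matrix (Fin t → Fin k) (Fin t → Fin k) F) : Phi X ∈ slots (F := F) (k := k) (t := t) :=
  mem_slots.mpr ⟨fun l => ptr l X, (Phi_apply X).symm⟩

theorem tens_update_smul (i : Fin t) (A : Fin t → Matrix (Fin k) (Fin k) F) (a : F) (B : Matrix (Fin k) (Fin k) F) :
    tens (Function.update A i (a • B)) = a • tens (Function.update A i B) := by
  have h := slot_mul_tens i (a • 1) (Function.update A i B)
  rw [slot_smul_one, Matrix.smul_mul, one_mul, Function.update_idem, Function.update_self,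
    Matrix.smul_mul, one_mul] at h
  exact h.symm

theorem avg_one_mem : avg H (1 : Matrix (Fin t → Fin k) (Fin t → Fin k) F) ∈ slots (F := F) (k := k) (t := t) := by
  classical
  letI := Fintype.ofFinite (Cosets H)
  rw [avg, LinearMap.sum_apply]
  refine Submodule.sum_mem _ fun q _ => ?_
  induction q using QuotientGroup.induction_on with
  | H g =>
    have e : Phi (1 : Matrix (Fin t → Fin k) (Fin t → Fin k) F) =
        (∑ i : Fin t, ∏ _j : {j // j ≠ i}, (1 : Matrix (Fin k) (Fin k) F).trace) • 1 := by
      rw [← tens_one, Phi_apply, Finset.sum_smul]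
      refine Finset.sum_congr rfl fun i _ => ?_
      rw [ptr_tens]
      simp only [Pi.one_apply]
      rw [slot_smul', slot_one', tens_one]
    rw [cosetTwist_mk, twist_apply, map_one, e, map_smul, map_one, ← e]
    exact Phi_mem_slots _

/-- Without fusion there is nothing outside the stabiliser. -/
theorem le_wreath_of_moves (hπ : π.Alt) (hk : 2 ≤ k) (hex : ¬ (Fintype.card F = 3 ∧ k = 2)) (ht : 1 ≤ t)
    (hM : ∀ i x (c : F), sRoot π i x c ∈ H) (hmov : Moves π H) :
    H ≤ Geo.tensorWreathStandard k t F := by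
  classical
  let S : Fin t → Submodule F (Matrix (Fin k) (Fin k) F) := fun i =>
    { carrier := {B | ∀ A, defect H (tens (Function.update A i B)) = 0}
      zero_mem' := fun A => by rw [tens_eq_zero (l := i) (Function.update_self _ _ _), map_zero]
      add_mem' := fun {B B'} hB hB' A => by rw [tens_update_add, map_add, hB A, hB' A, add_zero]
      smul_mem' := fun a B hB A => by rw [tens_update_smul, map_smul, hB A, smul_zero] }
  have hk34 : k = 2 ∨ 4 ≤ k := by have := dim_ne_three hπ; omega
  have hbig : 4 ≤ k → ∀ i p r, rk π p r ∈ S i := fun h4 i p r A => by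
    obtain ⟨x, x', hx0, hind, h1, h2, h3, h4'⟩ := exists_two_orth hπ h4 p r
    exact defect_eq_zero hπ (by omega) hM hmov i _ hx0
      (by rw [Function.update_self, rk_mul, rk_mul, h1, h2, zero_smul, zero_smul]; exact ⟨rfl, rfl⟩)
      (by rw [Function.update_self, rk_mul, rk_mul, h3, h4', zero_smul, zero_smul]; exact ⟨rfl, rfl⟩) (Or.inr hind)
  have hsmall : k = 2 → 3 < Fintype.card F := fun h2 => by
    have := two_lt_card (F := F) hπ
    by_contra h
    exact hex ⟨by omega, h2⟩
  have hxx : ∀ i x, rk π x x ∈ S i := fun i x => by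
    rcases hk34 with h2 | h4
    · intro A
      by_cases hx0 : x = 0
      · rw [hx0, rk_zero_left, tens_eq_zero (l := i) (Function.update_self _ _ _), map_zero]
      exact defect_eq_zero hπ (by omega) hM hmov i _ hx0
        (by rw [Function.update_self]; exact ⟨hπ.rk_sq x, hπ.rk_sq x⟩)
        (by rw [Function.update_self]; exact ⟨hπ.rk_sq x, hπ.rk_sq x⟩) (Or.inl (hsmall h2))
    · exact hbig h4 i x x
  have hzero : ∀ i B A, B ∈ S i → avg H (tens (Function.update A i B)) ∈ slots (F := F) (k := k) (t := t) :=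
    fun i B A hB => by
      have h := hB A
      rw [defect, LinearMap.sub_apply, sub_eq_zero] at h
      rw [h]; exact Phi_mem_slots _
  have htens : ∀ A : Fin t → Matrix (Fin k) (Fin k) F, avg H (tens A) ∈ slots (F := F) (k := k) (t := t) := by
    rcases hk34 with h2 | h4
    · subst h2
      have hJ : π.J 0 = 1 := by
        rcases Fin.exists_fin_two.mp ⟨π.J 0, rfl⟩ with h | h
        · exfalso
          have h' := π.ε_J 0
          rw [h, hπ.tau, neg_one_mul] at h'
          have h2 : (2 : F) * π.ε 0 = 0 := by linear_combination h'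
          exact one_ne_zero (α := F) (by rw [← π.ε_sq 0, (mul_eq_zero.mp h2).resolve_left hπ.two, mul_zero])
        · exact h
      have hJ1 : π.J 1 = 0 := by rw [← hJ, π.inv]
      have he : π.ε 1 = -π.ε 0 := by rw [← hJ, π.ε_J, hπ.tau, neg_one_mul]
      have hne : π.ε 0 ≠ 0 := fun e => one_ne_zero (α := F) (by rw [← π.ε_sq 0, e, mul_zero])
      have htr : ∀ i (B : Matrix (Fin 2) (Fin 2) F), B.trace = 0 → B ∈ S i := by
        intro i B hB
        set e0 : Fin 2 → F := Pi.single 0 1
        set e1 : Fin 2 → F := Pi.single 1 1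
        have e : B = (B 0 1 * π.ε 1) • rk π e0 e0 + (B 1 0 * π.ε 0) • rk π e1 e1 +
            (B 0 0 * π.ε 0) • (rk π (e0 + e1) (e0 + e1) - rk π e0 e0 - rk π e1 e1) := by
          rw [Matrix.trace_fin_two] at hB
          ext a b
          fin_cases a <;> fin_cases b <;>
            simp [rk, cv, e0, e1, vecMulVec_apply, hJ, hJ1, he, mul_assoc, π.ε_sq] <;> linear_combination hB
        rw [e]
        exact (S i).add_mem ((S i).add_mem ((S i).smul_mem _ (hxx i e0)) ((S i).smul_mem _ (hxx i e1)))
          ((S i).smul_mem _ ((S i).sub_mem ((S i).sub_mem (hxx i _) (hxx i e0)) (hxx i e1)))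
      have key : ∀ T : Finset (Fin t), ∀ A : Fin t → Matrix (Fin 2) (Fin 2) F, (∀ l, l ∉ T → A l = 1) →
          avg H (tens A) ∈ slots (F := F) (k := 2) (t := t) := by
        intro T
        induction T using Finset.induction with
        | empty =>
          intro A hA
          rw [show A = 1 from funext fun l => hA l (Finset.notMem_empty l), tens_one]
          exact avg_one_mem
        | insert l T hl ih =>
          intro A hA
          have e : A = Function.update A l ((A l - ((A l).trace / 2) • (1 : Matrix (Fin 2) (Fin 2) F)) +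
              ((A l).trace / 2) • 1) := by rw [sub_add_cancel, Function.update_eq_self]
          rw [e, tens_update_add, map_add]
          refine Submodule.add_mem _ (hzero l _ _ (htr l _ ?_)) ?_
          · rw [Matrix.trace_sub, Matrix.trace_smul, Matrix.trace_one, Fintype.card_fin, smul_eq_mul, Nat.cast_ofNat,
              div_mul_cancel₀ _ hπ.two, sub_self]
          · rw [tens_update_smul, map_smul]
            refine Submodule.smul_mem _ _ (ih _ fun j hj => ?_)
            rcases eq_or_ne j l with rfl | hjl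
            · rw [Function.update_self]
            · rw [Function.update_of_ne hjl]; exact hA j (by simp [hjl, hj])
      exact fun A => key Finset.univ A (fun l hl => absurd (Finset.mem_univ l) hl)
    · intro A
      let i : Fin t := ⟨0, ht⟩
      have hS : A i ∈ S i := by
        rw [Matrix.matrix_eq_sum_single (A i)]
        refine Submodule.sum_mem _ fun a _ => Submodule.sum_mem _ fun b _ => ?_
        rw [show Matrix.single a b (A i a b) = A i a b • Matrix.single a b (1 : F) by simp [Matrix.smul_single],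
          single_eq_rk (π := π)]
        exact (S i).smul_mem _ (hbig h4 i _ _)
      have := hzero i _ A hS
      rwa [Function.update_eq_self] at this
  have havg : ∀ Y, avg H Y ∈ slots (F := F) (k := k) (t := t) := by
    intro Y
    rw [Matrix.matrix_eq_sum_single Y, map_sum]
    refine Submodule.sum_mem _ fun u _ => ?_
    rw [map_sum]
    refine Submodule.sum_mem _ fun v _ => ?_
    rw [show Matrix.single u v (Y u v) = Y u v • Matrix.single u v (1 : F) by simp [Matrix.smul_single], map_smul,
      single_eq_tens]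
    exact Submodule.smul_mem _ _ (htens _)
  intro g hg
  let c₀ : Fin k := ⟨0, by omega⟩
  have hroot : ∀ i x, x ≠ 0 → ∃ j B, conjHom g (slot i (rk π x x)) = slot j B := by
    intro i x hx
    set A₀ : Fin t → Matrix (Fin k) (Fin k) F :=
      Function.update (fun _ => Matrix.single c₀ c₀ (1 : F)) i (rk π x x) with hA₀
    have hphi : Phi (tens A₀) = slot i (rk π x x) := by
      rw [Phi_apply]
      simp only [ptr_tens]
      rw [Finset.sum_eq_single i]
      · rw [hA₀, Function.update_self, Finset.prod_eq_one (fun j _ => ?_), one_smul]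
        rw [Function.update_of_ne j.2, Matrix.trace_single_eq_same]
      · intro j _ hji
        rw [Finset.prod_eq_zero (i := ⟨i, Ne.symm hji⟩) (Finset.mem_univ _), zero_smul, slot_zero']
        simp [hA₀, trace_rk, hπ.self]
      · simp
    have havgA : avg H (tens A₀) = slot i (rk π x x) := by
      have h := hxx i x (fun _ => Matrix.single c₀ c₀ (1 : F))
      rw [defect, LinearMap.sub_apply, sub_eq_zero, ← hA₀, hphi] at h
      exact h
    obtain ⟨B, hB⟩ := mem_slots.mp (havg (conjHom g (tens A₀)))
    rw [avg_equivariant H hg, havgA] at hB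
    obtain ⟨j, C, hC⟩ := slot_of_sum_sq (by omega) ht hπ.two hπ B (by
      rw [hB, ← map_mul, ← slot_mul', hπ.rk_sq, slot_zero', map_zero])
    exact ⟨j, C, by rw [← hB, hC]⟩
  choose σ hσ using fun i => range_of_roots hπ (by omega) (hroot i)
  exact mem_wreath_of_ranges hk ht g σ hσ

end Cfsg.Agent.WreathS
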