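import Cfsg.Agent.WreathS.Blk

/-!
An element centralising a root element of the first slot lies in the stabiliser when all centres are scalar
(helper56).
-/

set_option autoImplicit false
set_option linter.unusedSectionVars false

namespace Cfsg.Agent.WreathS

open Matrix Cfsg.Agent.MaxSub Cfsg.Agent.MaxSub.Asch Cfsg.Agent.FG75.SpinTensor Cfsg.Agent.WreathMax

variable {F : Type*} [Field F] [Finite F] {k t : ℕ} {π : Sgn F (Fin k)} {H : Subgroup (GL (Fin (t + 1) → Fin k) F)}

theorem nonscalar_tens (hπ : π.Alt) (hk : 0 < k) {P : Fin t → Matrix (Fin k) (Fin k) F}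
    (hP : ∀ l, P l = 1 ∨ Piece π (P l)) {l : Fin t} (hl : Piece π (P l)) (c : F) : tens P ≠ c • 1 := by
  haveI : Nonempty (Fin k) := ⟨⟨0, hk⟩⟩
  intro h
  have hne : tens P ≠ 0 := tens_ne_zero fun i => by
    rcases hP i with e | e
    · rw [e]; exact one_ne_zero
    · exact e.ne_zero hπ
  have h1 := congrArg (fun X => X * X) h
  simp only [tens_mul, smul_mul_smul_comm, mul_one] at h1
  rw [tens_eq_zero (l := l) (hl.sq hπ), eq_comm, smul_eq_zero] at h1
  rcases h1 with e | e
  · rw [mul_self_eq_zero.mp e, zero_smul] at h; exact hne h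
  · exact one_ne_zero e

/-- A pure element with a root line and a second piece gives a centre element which is not scalar. -/
theorem exists_inC_of_isPure (hπ : π.Alt) (hk : 0 < k) (hM : ContainsS π H)
    {P : Fin (t + 1) → Matrix (Fin k) (Fin k) F} (h : IsPure π H P) {l₁ l₂ : Fin (t + 1)} (hne : l₁ ≠ l₂)
    (h1 : IsE π (P l₁)) (h2 : Piece π (P l₂)) : ∃ Z, InC π H Z ∧ ∀ c : F, Z ≠ c • 1 := by
  classical
  have h' := h.move hM (Equiv.swap 0 l₁)
  set P₀ := P ∘ (Equiv.swap 0 l₁).symm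
  obtain ⟨x, hx, hx'⟩ : IsE π (P₀ 0) := by simpa [P₀] using h1
  obtain ⟨hP₀, a, ha, g, hg, e⟩ := h'
  refine ⟨a • tens fun j => P₀ j.succ, InC.of_one hπ hM hx
    ⟨g, hg, by rw [e, tens_eq_kz, hx', kz_smul_right]⟩, fun c he => ?_⟩
  have h20 : Equiv.swap 0 l₁ l₂ ≠ 0 := fun e0 => hne ((Equiv.swap 0 l₁).injective
    ((Equiv.swap_apply_right _ _).trans e0.symm))
  obtain ⟨j, hj⟩ := Fin.exists_succ_eq.mpr h20
  refine nonscalar_tens hπ hk (P := fun j => P₀ j.succ) (fun j => hP₀ _) (l := j) ?_ (a⁻¹ * c) ?_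
  · simpa [P₀, hj] using h2
  · rw [mul_smul, ← he, inv_smul_smul₀ ha]

/-- The radical element at a middle vector. -/
def yel (π : Sgn F (Fin k)) (o v : Fin k → F) (X : Matrix (Fin t → Fin k) (Fin t → Fin k) F) :
    Matrix (Fin (t + 1) → Fin k) (Fin (t + 1) → Fin k) F :=
  kz (rk π o v) X + kz (rk π v o) (adj (powS π t) X)

theorem yel_add (o v : Fin k → F) (X X' : Matrix (Fin t → Fin k) (Fin t → Fin k) F) :
    yel π o v (X + X') = yel π o v X + yel π o v X' := by
  simp only [yel, adj_add, kz_add_right]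
  abel

theorem yel_smul (o v : Fin k → F) (r : F) (X : Matrix (Fin t → Fin k) (Fin t → Fin k) F) :
    yel π o v (r • X) = r • yel π o v X := by
  simp only [yel, adj_smul, kz_smul_right, smul_add]

theorem yel_mul_yel (hπ : π.Alt) {o v : Fin k → F} (hov : bf π o v = 0)
    (X X' : Matrix (Fin t → Fin k) (Fin t → Fin k) F) : yel π o v X * yel π o v X' = 0 := by
  simp only [yel, mul_add, add_mul, kz_mul, rk_mul, hπ.self, hov, bf_eq_zero_comm π hov, zero_smul, kz_zero_left,
    add_zero]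

/-- In a radical element every middle block is scalar. -/
theorem radical_scalar (hπ : π.Alt) (hk : 0 < k) (hH : H ≤ U (powS π (t + 1))) (hM : ContainsS π H)
    (hns : ∀ Z, InC π H Z → ∃ c : F, Z = c • 1) {o w v : Fin k → F} (how : bf π o w = 1) (hvo : bf π v o = 0)
    (hvw : bf π v w = 0) (hv : v ≠ 0) {h : GL (Fin (t + 1) → Fin k) F} (hh : h ∈ H)
    {N : Matrix (Fin (t + 1) → Fin k) (Fin (t + 1) → Fin k) F} (e : h.val = 1 + N)
    {X : Matrix (Fin t → Fin k) (Fin t → Fin k) F} (hN : N * kk π v v = kz (rk π o v) X) :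
    ∃ c : F, X = c • 1 := by
  classical
  have hov : bf π o v = 0 := bf_eq_zero_comm π hvo
  have hwv : bf π w v = 0 := bf_eq_zero_comm π hvw
  have hwo : bf π w o = -1 := by rw [hπ.skew, how]
  have ho0 : o ≠ 0 := fun e0 => by rw [e0, bf_zero_left] at how; exact zero_ne_one how
  obtain ⟨z, hz⟩ := exists_left_ne π hv
  obtain ⟨z', hz'⟩ : ∃ z', bf π z' v = 1 := ⟨(bf π z v)⁻¹ • z, by rw [bf_smul_left, inv_mul_cancel₀ hz]⟩
  set V : Matrix (Fin (t + 1) → Fin k) (Fin (t + 1) → Fin k) F := kk π v v with hV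
  -- the commutator with a middle transvection
  set A := kz (rk π o v) X
  set B := kz (rk π v o) (adj (powS π t) X)
  set E := kz (rk π o o) (X * adj (powS π t) X)
  have hU := hH hh
  have hi : (h⁻¹).val = 1 + adj (powS π (t + 1)) N := by rw [inv_eq_adj _ hU, e, adj_add, adj_one]
  have hVN : V * adj (powS π (t + 1)) N = B := by
    have := congrArg (adj (powS π (t + 1))) hN
    rw [adj_mul, hV, adj_kk hπ, adj_kz, hπ.adj_rk', neg_mul, ← neg_one_smul F (rk π v o), kz_smul_left,
      neg_one_smul, neg_inj] at this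
    exact this
  have hNB : N * B = E := by
    have e1 : B = V * kz (rk π z' o) (adj (powS π t) X) := by
      rw [hV, kk, kz_mul, rk_mul, hz', one_smul, one_mul]
    rw [e1, ← mul_assoc, hN, kz_mul, rk_mul, hz', one_smul]
  set t₀ := kzU (st (bf π) v 1) (1 : GL (Fin t → Fin k) F) with ht₀
  have ht₀H : t₀ ∈ H := kzU_mem_H hM (st_mem_isom hπ.form _ _) (one_mem _)
  have hVV : V * V = 0 := by rw [hV, kk_mul, hπ.self, zero_smul]
  have ht₀v : t₀.val = 1 + V := by
    rw [kzU_coe, st_coe hπ, one_smul, Units.val_one, kz_add_left, kz_one, hV, kk]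
  have ht₀i : (t₀⁻¹).val = 1 - V := left_inv_eq_right_inv (Units.inv_mul _) (by
    rw [ht₀v, mul_sub, mul_one, add_mul, one_mul, hVV, add_zero, add_sub_cancel_right])
  have hcom : (h * t₀ * h⁻¹ * t₀⁻¹).val = 1 + yel π o v X + E := by
    have e1 : (h * t₀ * h⁻¹).val = 1 + V + A + B + E := by
      rw [Units.val_mul, Units.val_mul, ht₀v, mul_add, mul_one, add_mul, Units.mul_inv, e, hi]
      simp only [add_mul, mul_add, one_mul, mul_one, hVN, hNB, hN,
        show A * adj (powS π (t + 1)) N = E by rw [← hN, mul_assoc, hVN, hNB]]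
      abel
    rw [Units.val_mul, e1, ht₀i]
    have kA : A * V = 0 := by rw [hV, kk, kz_mul, rk_mul, hπ.self, zero_smul, kz_zero_left]
    have kB : B * V = 0 := by rw [hV, kk, kz_mul, rk_mul, hvo, zero_smul, kz_zero_left]
    have kE : E * V = 0 := by rw [hV, kk, kz_mul, rk_mul, hvo, zero_smul, kz_zero_left]
    simp only [mul_sub, add_mul, mul_one, one_mul, hVV, kA, kB, kE, yel]
    abel
  -- removing the top
  obtain ⟨T, hT, -, hTo, -, hTfix⟩ := exists_tor hπ how (μ := -1) (neg_ne_zero.mpr one_ne_zero)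
  have hconjT : ∀ (Q : Matrix (Fin k) (Fin k) F) (Z : Matrix (Fin t → Fin k) (Fin t → Fin k) F),
      (kzU T 1).val * kz Q Z * ((kzU T (1 : GL (Fin t → Fin k) F))⁻¹).val =
        kz (T.val * Q * (T⁻¹).val) Z := by
    intro Q Z
    show kz _ _ * kz Q Z * kz _ _ = _
    rw [kz_mul, kz_mul]
    simp
  have hTH : kzU T (1 : GL (Fin t → Fin k) F) ∈ H := kzU_mem_H hM hT (one_mem _)
  have hflip : (kzU T 1 * (h * t₀ * h⁻¹ * t₀⁻¹) * (kzU T (1 : GL (Fin t → Fin k) F))⁻¹).val =
      1 - yel π o v X + E := by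
    rw [Units.val_mul, Units.val_mul, hcom, add_assoc (1 : Matrix (Fin (t + 1) → Fin k) (Fin (t + 1) → Fin k) F),
      conj_one_add]
    simp only [mul_add, add_mul, yel, E, hconjT, conj_rk π hT, hTo, (hTfix v hvo hvw).1, rk_smul_left, rk_smul_right,
      smul_smul, neg_mul_neg, one_mul, one_smul, kz_smul_left]
    module
  set h₁ := kzU T 1 * (h * t₀ * h⁻¹ * t₀⁻¹) * (kzU T (1 : GL (Fin t → Fin k) F))⁻¹
  have hmem : h * t₀ * h⁻¹ * t₀⁻¹ ∈ H := mul_mem (mul_mem (mul_mem hh ht₀H) (inv_mem hh)) (inv_mem ht₀H)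
  have hh₁ : h₁ ∈ H := mul_mem (mul_mem hTH hmem) (inv_mem hTH)
  have hkE : ∀ Z, E * yel π o v Z = 0 ∧ yel π o v Z * E = 0 := fun Z => by
    simp only [E, yel, mul_add, add_mul, kz_mul, rk_mul, hπ.self, hov, hvo, zero_smul, kz_zero_left, add_zero, and_self]
  have hEE : E * E = 0 := by simp only [E, kz_mul, rk_mul, hπ.self, zero_smul, kz_zero_left]
  have h₁i : (h₁⁻¹).val = 1 + yel π o v X - E := left_inv_eq_right_inv (Units.inv_mul _) (by
    rw [hflip]
    simp only [mul_sub, mul_add, add_mul, sub_mul, one_mul, mul_one, yel_mul_yel hπ hov, (hkE X).1, (hkE X).2, hEE]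
    abel)
  have hpureel : (h * t₀ * h⁻¹ * t₀⁻¹ * h₁⁻¹).val = 1 + yel π o v ((2 : F) • X) := by
    rw [Units.val_mul, hcom, h₁i]
    simp only [mul_sub, mul_add, add_mul, one_mul, mul_one, yel_mul_yel hπ hov, (hkE X).1, (hkE X).2, hEE,
      two_smul F X, yel_add]
    abel
  -- the stable set of middle blocks
  let S : Set (Matrix (Fin t → Fin k) (Fin t → Fin k) F) := {Z | ∃ g ∈ H, g.val = 1 + yel π o v Z}
  have hS0 : (0 : Matrix (Fin t → Fin k) (Fin t → Fin k) F) ∈ S :=
    ⟨1, one_mem H, by simp [yel, adj_zero, kz_zero_right]⟩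
  have hS : Stable π S := by
    refine ⟨?_, ?_, ?_⟩
    · rintro Z Z' ⟨g, hg, eg⟩ ⟨g', hg', eg'⟩
      refine ⟨g * g', mul_mem hg hg', ?_⟩
      rw [Units.val_mul, eg, eg', mul_add, mul_one, add_mul, one_mul, yel_mul_yel hπ hov, add_zero, yel_add]
      abel
    · intro r Z hZ
      by_cases hr : r = 0
      · rw [hr, zero_smul]; exact hS0
      obtain ⟨g, hg, eg⟩ := hZ
      obtain ⟨R, hR, -, hRo, -, hRfix⟩ := exists_tor hπ how hr
      have hRH : kzU R (1 : GL (Fin t → Fin k) F) ∈ H := kzU_mem_H hM hR (one_mem _)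
      refine ⟨kzU R 1 * g * (kzU R 1)⁻¹, mul_mem (mul_mem hRH hg) (inv_mem hRH), ?_⟩
      rw [Units.val_mul, Units.val_mul, eg, conj_one_add]
      congr 1
      simp only [yel, mul_add, add_mul]
      show kz _ _ * kz _ _ * kz _ _ + kz _ _ * kz _ _ * kz _ _ = _
      simp only [kz_mul, Units.val_one, inv_one, one_mul, mul_one, conj_rk π hR, hRo, (hRfix v hvo hvw).1,
        rk_smul_left, rk_smul_right, kz_smul_left, kz_smul_right, adj_smul]
    · rintro B hBW Z ⟨g, hg, eg⟩
      have hB := Ws_le_U π hBW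
      have hw := kzU_mem_H hM (one_mem (U π)) hBW
      refine ⟨kzU 1 B * g * (kzU 1 B)⁻¹, mul_mem (mul_mem hw hg) (inv_mem hw), ?_⟩
      rw [Units.val_mul, Units.val_mul, eg, conj_one_add]
      congr 1
      simp only [yel, mul_add, add_mul]
      show kz _ _ * kz _ _ * kz _ _ + kz _ _ * kz _ _ * kz _ _ = _
      simp only [kz_mul, Units.val_one, inv_one, one_mul, mul_one, ← conjHom_apply, adj_conjHom hB]
  -- symmetric parts give centre elements
  have hsym : ∀ Z ∈ S, InC π H (Z + adj (powS π t) Z) := by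
    rintro Z ⟨g, hg, eg⟩
    set u := z' - bf π z' w • o + bf π z' o • w with hu
    have huo : bf π u o = 0 := by
      rw [hu, bf_add_left, bf_sub_left, bf_smul_left, bf_smul_left, hπ.self, hwo]; ring
    have huw : bf π u w = 0 := by
      rw [hu, bf_add_left, bf_sub_left, bf_smul_left, bf_smul_left, hπ.self, how]; ring
    have huv : bf π u v = 1 := by
      rw [hu, bf_add_left, bf_sub_left, bf_smul_left, bf_smul_left, hov, hwv, hz']; ring
    have hvu : bf π v u = -1 := by rw [hπ.skew, huv]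
    have hou : bf π o u = 0 := bf_eq_zero_comm π huo
    set Q := rk π u o + rk π o u with hQ
    have hQQ : Q * Q = 0 := by
      simp only [hQ, mul_add, add_mul, rk_mul, huo, hou, hπ.self, zero_smul, add_zero]
    let q : GL (Fin k) F := ⟨1 + Q, 1 - Q,
      by rw [mul_sub, mul_one, add_mul, one_mul, hQQ, add_zero, add_sub_cancel_right],
      by rw [mul_add, mul_one, sub_mul, one_mul, hQQ, sub_zero, sub_add_cancel]⟩
    have hqU : q ∈ U π := by
      rw [mem_U_iff]
      show adj π (1 + Q) * (1 + Q) = 1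
      rw [adj_add, adj_one, show adj π Q = -Q by rw [hQ, adj_add, hπ.adj_rk', hπ.adj_rk']; abel]
      simp only [add_mul, mul_add, one_mul, mul_one, neg_mul, hQQ]
      abel
    set m := kzU q (1 : GL (Fin t → Fin k) F)
    have hmH : m ∈ H := kzU_mem_H hM hqU (one_mem _)
    set M : Matrix (Fin (t + 1) → Fin k) (Fin (t + 1) → Fin k) F := kz Q 1 with hMd
    have hmv : m.val = 1 + M := by
      rw [kzU_coe, Units.val_one, hMd, show (q : Matrix (Fin k) (Fin k) F) = 1 + Q from rfl, kz_add_left, kz_one]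
    have hMM : M * M = 0 := by rw [hMd, kz_mul, hQQ, kz_zero_left]
    have hmi : (m⁻¹).val = 1 - M := left_inv_eq_right_inv (Units.inv_mul _) (by
      rw [hmv, mul_sub, mul_one, add_mul, one_mul, hMM, add_zero, add_sub_cancel_right])
    set Y := yel π o v Z with hY
    set C := kz (rk π o o) (Z + adj (powS π t) Z)
    have hgi : (g⁻¹).val = 1 - Y := left_inv_eq_right_inv (Units.inv_mul _) (by
      rw [eg, mul_sub, mul_one, add_mul, one_mul, yel_mul_yel hπ hov, add_zero, add_sub_cancel_right])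
    have hYM : Y * M - M * Y = C := by
      simp only [hY, yel, hMd, hQ, C, mul_add, add_mul, kz_add_left, kz_add_right, kz_mul, rk_mul, huv, hvu, huo, hou,
        hov, hvo, hπ.self, zero_smul, one_smul, kz_zero_left, one_mul, mul_one, add_zero, zero_add, neg_smul]
      rw [← neg_one_smul F (rk π o o), kz_smul_left, neg_one_smul]
      abel
    have hYMY : Y * M * Y = 0 := by
      simp only [hY, yel, hMd, hQ, mul_add, add_mul, kz_add_left, kz_mul, rk_mul, smul_mul_assoc, huv, huo, hou,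
        hov, hvo, hπ.self, zero_smul, kz_zero_left, smul_zero, add_zero, zero_mul]
    have hCM : C * M = 0 := by
      simp only [C, hMd, hQ, mul_add, kz_add_left, kz_mul, rk_mul, huo, hπ.self, zero_smul, kz_zero_left, add_zero]
    have ecom : (g * m * g⁻¹ * m⁻¹).val = 1 + C := by
      have e2 : (g * m * g⁻¹).val = 1 + M + C := by
        rw [Units.val_mul, Units.val_mul, hmv, eg, hgi, ← hYM]
        simp only [add_mul, mul_add, mul_sub, one_mul, mul_one, hYMY, show Y * Y = 0 from yel_mul_yel hπ hov _ _]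
        abel
      rw [Units.val_mul, e2, hmi]
      simp only [mul_sub, add_mul, mul_one, one_mul, hMM, hCM]
      abel
    exact InC.of_one hπ hM ho0 ⟨_, mul_mem (mul_mem (mul_mem hg hmH) (inv_mem hg)) (inv_mem hmH), ecom⟩
  by_contra hX
  push Not at hX
  have hX2 : ∀ c : F, (2 : F) • X ≠ c • 1 := fun c ec => hX ((2 : F)⁻¹ * c) (by
    rw [mul_smul, ← ec, inv_smul_smul₀ hπ.two])
  obtain ⟨P, hP, ⟨l, hl⟩, g, hg, eg⟩ := Stable.exists_pure hπ hS (Z := (2 : F) • X)
    ⟨_, mul_mem hmem (inv_mem hh₁), hpureel⟩ hX2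
  obtain ⟨c, hc⟩ := hns _ (hsym _ ⟨g, hg, eg⟩)
  -- some piece is a root line
  have hodd : (∃ l, IsE π (P l)) ∧ adj (powS π t) (tens P) = -tens P := by
    set S₁ := Finset.univ.filter fun l => IsE π (P l)
    have hadj : adj (powS π t) (tens P) = (-1 : F) ^ S₁.card • tens P := by
      rw [adj_tens, show (-1 : F) ^ S₁.card = ∏ j, (if IsE π (P j) then (-1 : F) else 1) by
        rw [Finset.prod_ite, Finset.prod_const, Finset.prod_const_one, mul_one], ← tens_smul]
      congr 1
      funext j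
      by_cases hj : IsE π (P j)
      · rw [if_pos hj, hj.adj hπ, neg_one_smul]
      · rw [if_neg hj, adj_of_not_isE hπ (hP j) hj, one_smul]
    rcases Nat.even_or_odd S₁.card with hev | hod
    · rw [hadj, hev.neg_one_pow, one_smul, ← two_smul F] at hc
      exact absurd (by rw [mul_smul, ← hc, inv_smul_smul₀ hπ.two]) (nonscalar_tens hπ hk hP hl ((2 : F)⁻¹ * c))
    · obtain ⟨l', hl'⟩ := Finset.card_pos.mp hod.pos
      exact ⟨⟨l', (Finset.mem_filter.mp hl').2⟩, by rw [hadj, hod.neg_one_pow, neg_one_smul]⟩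
  obtain ⟨⟨l', hl'⟩, hsk⟩ := hodd
  have hpure : IsPure π H (Fin.cons (rk π o v - rk π v o) P) := by
    refine ⟨fun i => ?_, 1, one_ne_zero, g, hg, ?_⟩
    · refine Fin.cases ?_ (fun i => ?_) i
      · rw [Fin.cons_zero]
        exact Or.inr (Or.inr ⟨v, o, hv, fun c ec => by
          rw [ec, bf_smul_left, hvw, mul_zero] at how
          exact zero_ne_one how, hvo, rfl⟩)
      · rw [Fin.cons_succ]; exact hP i
    · rw [eg, one_smul, tens_eq_kz, Fin.cons_zero, yel, hsk, sub_eq_add_neg, kz_add_left, kz_neg_right,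
        ← neg_one_smul F (rk π v o), kz_smul_left, neg_one_smul]
      simp only [Fin.cons_succ, neg_smul, one_smul]
  obtain ⟨Z, hZ, hZs⟩ := exists_inC_of_isPure hπ hk hM hpure (l₁ := l'.succ) (l₂ := 0) (Fin.succ_ne_zero _)
    (by rw [Fin.cons_succ]; exact hl') (by
      rw [Fin.cons_zero]
      exact Or.inr ⟨v, o, hv, fun c ec => by
          rw [ec, bf_smul_left, hvw, mul_zero] at how
          exact zero_ne_one how, hvo, rfl⟩)
  obtain ⟨c', hc'⟩ := hns Z hZ
  exact hZs c' hc'

end Cfsg.Agent.WreathS
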