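import Cfsg.Agent.WreathS.Comm

/-!
Contractions of the first slot and the torus of a hyperbolic pair (helper56).
-/

set_option autoImplicit false
set_option linter.unusedSectionVars false

namespace Cfsg.Agent.WreathS

open Matrix Cfsg.Agent.MaxSub Cfsg.Agent.MaxSub.Asch Cfsg.Agent.FG75.SpinTensor Cfsg.Agent.WreathMax

variable {F : Type*} [Field F] {k t : ℕ} {π : Sgn F (Fin k)}

/-- A rank one map in the first slot. -/
def kk (π : Sgn F (Fin k)) (p q : Fin k → F) : Matrix (Fin (t + 1) → Fin k) (Fin (t + 1) → Fin k) F :=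
  kz (rk π p q) 1

/-- The block of the first slot at two vectors. -/
def blk (π : Sgn F (Fin k)) (N : Matrix (Fin (t + 1) → Fin k) (Fin (t + 1) → Fin k) F) (b c : Fin k → F) :
    Matrix (Fin t → Fin k) (Fin t → Fin k) F := ∑ i, ∑ j, (cv π b i * c j) • zblk N i j

theorem kk_sandwich (a b c d : Fin k → F) (N : Matrix (Fin (t + 1) → Fin k) (Fin (t + 1) → Fin k) F) :
    kk π a b * N * kk π c d = kz (rk π a d) (blk π N b c) := by
  refine zblk_ext fun x y => ?_
  rw [zblk_mul]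
  simp only [zblk_mul, kk, zblk_kz, smul_mul_assoc, one_mul, Finset.sum_mul, mul_smul_comm, mul_one, smul_smul,
    blk, Finset.smul_sum, rk, vecMulVec_apply]
  rw [Finset.sum_comm]
  refine Finset.sum_congr rfl fun i _ => Finset.sum_congr rfl fun j _ => ?_
  congr 1
  ring

theorem blk_smul_left (N : Matrix (Fin (t + 1) → Fin k) (Fin (t + 1) → Fin k) F) (r : F) (b c : Fin k → F) :
    blk π N (r • b) c = r • blk π N b c := by
  simp only [blk, cv_smul, Pi.smul_apply, smul_eq_mul, Finset.smul_sum, smul_smul, mul_assoc]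

theorem blk_smul_right (N : Matrix (Fin (t + 1) → Fin k) (Fin (t + 1) → Fin k) F) (r : F) (b c : Fin k → F) :
    blk π N b (r • c) = r • blk π N b c := by
  simp only [blk, Pi.smul_apply, smul_eq_mul, Finset.smul_sum, smul_smul, mul_left_comm]

theorem zblk_eq_blk (N : Matrix (Fin (t + 1) → Fin k) (Fin (t + 1) → Fin k) F) (i j : Fin k) :
    zblk N i j = blk π N (dual π i) (Pi.single j 1) := by
  simp [blk, cv_dual, Pi.single_apply]

theorem kz_cancel {A : Matrix (Fin k) (Fin k) F} (hA : A ≠ 0) {Z Z' : Matrix (Fin t → Fin k) (Fin t → Fin k) F}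
    (h : kz A Z = kz A Z') : Z = Z' := by
  obtain ⟨i, j, hij⟩ : ∃ i j, A i j ≠ 0 := by
    by_contra hc
    push Not at hc
    exact hA (Matrix.ext hc)
  have h1 := congrArg (fun X => zblk X i j) h
  simp only [zblk_kz] at h1
  exact smul_right_injective _ hij h1

theorem kk_mul (a b c d : Fin k → F) :
    (kk π a b : Matrix (Fin (t + 1) → Fin k) (Fin (t + 1) → Fin k) F) * kk π c d = bf π c b • kk π a d := by
  rw [kk, kk, kk, kz_mul, rk_mul, one_mul, kz_smul_left]

theorem kz_mul_kk (a b : Fin k → F) (Z : Matrix (Fin t → Fin k) (Fin t → Fin k) F) :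
    kz (rk π a b) Z = kk π a b * kz 1 Z := by
  rw [kk, kz_mul, mul_one, one_mul]

theorem adj_kk (hπ : π.Alt) (a b : Fin k → F) :
    adj (powS π (t + 1)) (kk π a b : Matrix (Fin (t + 1) → Fin k) (Fin (t + 1) → Fin k) F) = -kk π b a := by
  rw [kk, adj_kz, hπ.adj_rk', adj_one, kk, ← neg_one_smul F (rk π b a), kz_smul_left, neg_one_smul]

theorem blk_adj (hπ : π.Alt) (hk : 0 < k) (N : Matrix (Fin (t + 1) → Fin k) (Fin (t + 1) → Fin k) F)
    (b c : Fin k → F) : blk π (adj (powS π (t + 1)) N) c b = -adj (powS π t) (blk π N b c) := by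
  let p : Fin k → F := Pi.single ⟨0, hk⟩ 1
  have hp : p ≠ 0 := fun e => by simpa [p] using congrFun e ⟨0, hk⟩
  refine kz_cancel (rk_self_ne_zero π hp) ?_
  have h := congrArg (adj (powS π (t + 1))) (kk_sandwich (π := π) p b c p N)
  rw [adj_mul, adj_mul, adj_kk hπ, adj_kk hπ, adj_kz, hπ.adj_rk'] at h
  rw [← kk_sandwich, kz_neg_right]
  rw [show -rk π p p = (-1 : F) • rk π p p by simp, kz_smul_left, neg_one_smul] at h
  rw [← h]
  simp [mul_assoc]

theorem blk_inv (hπ : π.Alt) (hk : 0 < k) {h : GL (Fin (t + 1) → Fin k) F} (hh : h ∈ U (powS π (t + 1)))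
    (b c : Fin k → F) : blk π (h⁻¹).val c b = -adj (powS π t) (blk π h.val b c) := by
  rw [inv_eq_adj _ hh, blk_adj hπ hk]

theorem adj_conjHom {B : GL (Fin t → Fin k) F} (hB : B ∈ U (powS π t))
    (X : Matrix (Fin t → Fin k) (Fin t → Fin k) F) :
    adj (powS π t) (conjHom B X) = conjHom B (adj (powS π t) X) := by
  rw [conjHom_apply, conjHom_apply, inv_eq_adj _ hB, adj_mul, adj_mul, adj_adj, mul_assoc]

/-! ### The torus of a pair -/

/-- The torus element of a hyperbolic pair. -/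
def tor (π : Sgn F (Fin k)) (o w : Fin k → F) (μ : F) : Matrix (Fin k) (Fin k) F :=
  1 + (μ - 1) • rk π o w - (μ⁻¹ - 1) • rk π w o

theorem exists_tor (hπ : π.Alt) {o w : Fin k → F} (how : bf π o w = 1) {μ : F} (hμ : μ ≠ 0) :
    ∃ T ∈ U π, (T : Matrix (Fin k) (Fin k) F) = tor π o w μ ∧ (T : Matrix (Fin k) (Fin k) F) *ᵥ o = μ • o ∧
      (T : Matrix (Fin k) (Fin k) F) *ᵥ w = μ⁻¹ • w ∧
      ∀ v, bf π v o = 0 → bf π v w = 0 →
        (T : Matrix (Fin k) (Fin k) F) *ᵥ v = v ∧ ((T⁻¹ : GL (Fin k) F) : Matrix (Fin k) (Fin k) F) *ᵥ v = v := by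
  have hwo : bf π w o = -1 := by rw [hπ.skew, how]
  have hmul : ∀ ν : F, ν ≠ 0 → tor π o w ν * tor π o w ν⁻¹ = 1 := by
    intro ν hν
    simp only [tor, inv_inv, mul_add, mul_sub, add_mul, sub_mul, mul_one, one_mul, smul_mul_smul_comm, rk_mul, how,
      hwo, hπ.self, one_smul, neg_smul, zero_smul, smul_zero, smul_neg]
    match_scalars <;> field_simp <;> ring
  let T : GL (Fin k) F := ⟨tor π o w μ, tor π o w μ⁻¹, hmul μ hμ, by
    have := hmul μ⁻¹ (inv_ne_zero hμ)
    rwa [inv_inv] at this⟩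
  have hadj : adj π (tor π o w μ) = tor π o w μ⁻¹ := by
    simp only [tor, adj_add, adj_sub, adj_smul, adj_one, hπ.adj_rk', inv_inv]
    module
  have hfix : ∀ ν v, bf π v o = 0 → bf π v w = 0 → tor π o w ν *ᵥ v = v := fun ν v h1 h2 => by
    simp only [tor, sub_mulVec, add_mulVec, one_mulVec, smul_mulVec, rk_mulVec, h1, h2, zero_smul, smul_zero,
      sub_zero, add_zero]
  refine ⟨T, (mem_U_iff π).mpr ?_, rfl, ?_, ?_, fun v h1 h2 => ⟨hfix μ v h1 h2, hfix μ⁻¹ v h1 h2⟩⟩
  · show adj π (tor π o w μ) * tor π o w μ = 1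
    rw [hadj]
    exact T.inv_val
  · show tor π o w μ *ᵥ o = _
    simp only [tor, sub_mulVec, add_mulVec, one_mulVec, smul_mulVec, rk_mulVec, how, hπ.self, zero_smul, smul_zero,
      sub_zero, one_smul]
    module
  · show tor π o w μ *ᵥ w = _
    simp only [tor, sub_mulVec, add_mulVec, one_mulVec, smul_mulVec, rk_mulVec, hwo, hπ.self, zero_smul, smul_zero,
      add_zero, neg_smul, one_smul]
    module

end Cfsg.Agent.WreathS
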