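import Cfsg.Agent.WreathS.Levi

/-!
The centraliser of a root element of the first slot (helper56).
-/

set_option autoImplicit false
set_option linter.unusedSectionVars false

namespace Cfsg.Agent.WreathS

open Matrix Cfsg.Agent.MaxSub Cfsg.Agent.MaxSub.Asch Cfsg.Agent.FG75.SpinTensor Cfsg.Agent.WreathMax

variable {F : Type*} [Field F] [Finite F] {k t : ℕ} {π : Sgn F (Fin k)} {H : Subgroup (GL (Fin (t + 1) → Fin k) F)}

theorem kz_cancel_left {Z : Matrix (Fin t → Fin k) (Fin t → Fin k) F} (hZ : Z ≠ 0)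
    {A B : Matrix (Fin k) (Fin k) F} (h : kz A Z = kz B Z) : A = B := by
  ext i j
  have h1 := congrArg (fun X => zblk X i j) h
  simp only [zblk_kz] at h1
  exact smul_left_injective F hZ h1

/-- The blocks on the line and its radical. -/
theorem line_edge (hπ : π.Alt) {o w : Fin k → F} (how : bf π o w = 1) {h : GL (Fin (t + 1) → Fin k) F}
    (hc : h.val * kk π o o = kk π o o * h.val) :
    (∀ q, h.val * kk π o q = kz (rk π o q) (blk π h.val w o)) ∧
      (∀ q, kk π q o * h.val = kz (rk π q o) (blk π h.val w o)) ∧ blk π h.val o w = -blk π h.val w o := by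
  have ho : o ≠ 0 := fun e => by rw [e, bf_zero_left] at how; exact zero_ne_one how
  have hwo : bf π w o = -1 := by rw [hπ.skew, how]
  have hL : ∀ q, kk π q o * h.val = kz (rk π q o) (blk π h.val w o) := fun q => by
    rw [show kk π q o = kk π q w * kk π o o by rw [kk_mul, how, one_smul], mul_assoc, ← hc, ← mul_assoc, kk_sandwich]
  have hR : ∀ q, h.val * kk π o q = kz (rk π o q) (-blk π h.val o w) := fun q => by
    rw [show kk π o q = -(kk π o o * kk π w q) by rw [kk_mul, hwo, neg_one_smul, neg_neg], mul_neg, ← mul_assoc, hc,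
      kk_sandwich, kz_neg_right]
  have e : -blk π h.val o w = blk π h.val w o := kz_cancel (rk_self_ne_zero π ho) (by
    rw [← hR, hc, hL])
  exact ⟨fun q => by rw [hR, e], hL, by rw [← e, neg_neg]⟩

theorem line_unit (hπ : π.Alt) (hk : 0 < k) {o w : Fin k → F} (how : bf π o w = 1) {h : GL (Fin (t + 1) → Fin k) F}
    (hU : h ∈ U (powS π (t + 1))) (hc : h.val * kk π o o = kk π o o * h.val) :
    (h⁻¹).val * kk π o o = kk π o o * (h⁻¹).val ∧
      blk π (h⁻¹).val w o = adj (powS π t) (blk π h.val w o) ∧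
      blk π h.val w o * adj (powS π t) (blk π h.val w o) = 1 := by
  have hc' : (h⁻¹).val * kk π o o = kk π o o * (h⁻¹).val := by
    have := congrArg (fun X => (h⁻¹).val * X * (h⁻¹).val) hc
    simpa [mul_assoc] using this.symm
  obtain ⟨hR, hL, hop⟩ := line_edge hπ how hc
  obtain ⟨hR', hL', hop'⟩ := line_edge hπ how hc'
  have e : blk π (h⁻¹).val w o = adj (powS π t) (blk π h.val w o) := by
    rw [blk_inv hπ hk hU, hop, adj_neg, neg_neg]
  refine ⟨hc', e, ?_⟩
  have ho : o ≠ 0 := fun e => by rw [e, bf_zero_left] at how; exact zero_ne_one how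
  rw [← e]
  refine kz_cancel (rk_self_ne_zero π ho) ?_
  show _ = kk π o o
  calc kz (rk π o o) (blk π h.val w o * blk π (h⁻¹).val w o)
      = kz 1 (blk π h.val w o) * (kk π o o * (h⁻¹).val) := by rw [hL', kz_mul, one_mul]
    _ = (h.val * kk π o o) * (h⁻¹).val := by
        rw [hR, ← mul_assoc, kk, kz_mul, one_mul, mul_one]
    _ = kk π o o := by rw [hc, mul_assoc, Units.mul_inv, mul_one]

/-- The middle blocks of the inverse of a centralising element. -/
theorem line_blocks (hπ : π.Alt) (hk : 0 < k) (hH : H ≤ U (powS π (t + 1))) (hM : ContainsS π H)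
    (hns : ∀ Z, InC π H Z → ∃ c : F, Z = c • 1) {o w : Fin k → F} (how : bf π o w = 1)
    {h : GL (Fin (t + 1) → Fin k) F} (hh : h ∈ H) (hc : h.val * kk π o o = kk π o o * h.val)
    {u v : Fin k → F} (huo : bf π u o = 0) (hvo : bf π v o = 0) (hvw : bf π v w = 0) (hv : v ≠ 0) :
    (∃ c : F, blk π (h⁻¹).val u v = c • adj (powS π t) (blk π h.val w o)) ∧
      ∃ c : F, blk π (h⁻¹).val w v = c • adj (powS π t) (blk π h.val w o) := by
  obtain ⟨hc', hinv, haa⟩ := line_unit hπ hk how (hH hh) hc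
  obtain ⟨hR, -, -⟩ := line_edge hπ how hc
  obtain ⟨-, hL', -⟩ := line_edge hπ how hc'
  set a := blk π h.val w o
  have ha'a : adj (powS π t) a * a = 1 := mul_eq_one_comm.mp haa
  have hcancel : ∀ (X : Matrix (Fin t → Fin k) (Fin t → Fin k) F), (∃ c : F, a * X = c • 1) →
      ∃ c : F, X = c • adj (powS π t) a := by
    rintro X ⟨c, hcX⟩
    refine ⟨c, ?_⟩
    have h1 := congrArg (adj (powS π t) a * ·) hcX
    simp only [← mul_assoc, ha'a, one_mul, mul_smul_comm, mul_one] at h1
    exact h1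
  constructor
  · -- conjugate of a radical element of the first slot
    refine hcancel _ ?_
    have hou : bf π o u = 0 := bf_eq_zero_comm π huo
    set Q := rk π u o + rk π o u with hQ
    have hQQ : Q * Q = 0 := by
      simp only [hQ, mul_add, add_mul, rk_mul, huo, hou, hπ.self, zero_smul, add_zero]
    let q : GL (Fin k) F := ⟨1 + Q, 1 - Q,
      by rw [mul_sub, mul_one, add_mul, one_mul, hQQ, add_zero, add_sub_cancel_right],
      by rw [mul_add, mul_one, sub_mul, one_mul, hQQ, sub_zero, sub_add_cancel]⟩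
    have hqU : q ∈ U π := by
      rw [mem_U_iff]
      show adj π (1 + Q) * (1 + Q) = 1
      rw [adj_add, adj_one, show adj π Q = -Q by rw [hQ, adj_add, hπ.adj_rk', hπ.adj_rk']; abel]
      simp only [add_mul, mul_add, one_mul, mul_one, neg_mul, hQQ]
      abel
    have hqH : kzU q (1 : GL (Fin t → Fin k) F) ∈ H := kzU_mem_H hM hqU (one_mem _)
    refine radical_scalar hπ hk hH hM hns how hvo hvw hv (h := h * kzU q 1 * h⁻¹) (mul_mem (mul_mem hh hqH) (inv_mem hh))
      (N := h.val * (kk π u o + kk π o u) * (h⁻¹).val) ?_ ?_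
    · rw [Units.val_mul, Units.val_mul, kzU_coe, Units.val_one,
        show (q : Matrix (Fin k) (Fin k) F) = 1 + (rk π u o + rk π o u) from rfl, kz_add_left, kz_one, conj_one_add,
        kz_add_left]
      rfl
    · have z1 : kk π u o * (h⁻¹).val * kk π v v = 0 := by
        rw [hL', kk, kz_mul, rk_mul, hvo, zero_smul, kz_zero_left]
      rw [mul_add, add_mul, add_mul, mul_assoc h.val (kk π u o), mul_assoc h.val, z1, mul_zero, zero_add, hR,
        kz_mul_kk, mul_assoc, mul_assoc]
      rw [show kk π o u * (kz 1 a * ((h⁻¹).val * kk π v v)) = kz 1 a * (kk π o u * (h⁻¹).val * kk π v v) by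
        rw [← mul_assoc, kk, kz_mul, mul_assoc _ (h⁻¹).val, ← mul_assoc (kz 1 a) (kz (rk π o u) 1), kz_mul]; simp,
        kk_sandwich, kz_mul, one_mul]
  · -- conjugate of a torus element
    obtain ⟨T, hT, hTe, -, -, hfix⟩ := exists_tor hπ how (μ := -1) (neg_ne_zero.mpr one_ne_zero)
    have hTH : kzU T (1 : GL (Fin t → Fin k) F) ∈ H := kzU_mem_H hM hT (one_mem _)
    have key : ∃ c : F, ((-2 : F) • (a * blk π (h⁻¹).val w v)) = c • 1 := by
      refine radical_scalar hπ hk hH hM hns how hvo hvw hv (h := h * kzU T 1 * h⁻¹ * (kzU T 1)⁻¹)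
        (mul_mem (mul_mem (mul_mem hh hTH) (inv_mem hh)) (inv_mem hTH))
        (N := (h * kzU T 1 * h⁻¹ * (kzU T 1)⁻¹).val - 1) (add_sub_cancel _ _).symm ?_
      have z2 : kk π w o * (h⁻¹).val * kk π v v = 0 := by
        rw [hL', kk, kz_mul, rk_mul, hvo, zero_smul, kz_zero_left]
      have hTV : ((kzU T (1 : GL (Fin t → Fin k) F))⁻¹).val * kk π v v = kk π v v := by
        show kz _ _ * kz _ _ = kz _ _
        rw [kz_mul, mul_rk, (hfix v hvo hvw).2]
        simp
      have hTk : (kzU T (1 : GL (Fin t → Fin k) F)).val = 1 + (-2 : F) • kk π o w + (2 : F) • kk π w o := by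
        rw [kzU_coe, Units.val_one, hTe, tor, inv_neg, inv_one, show (-1 : F) - 1 = -2 by ring, sub_eq_add_neg,
          ← neg_smul, neg_neg, kz_add_left, kz_add_left, kz_one, kz_smul_left, kz_smul_left]
        rfl
      rw [sub_mul, one_mul, Units.val_mul, mul_assoc, hTV, Units.val_mul, Units.val_mul, hTk]
      simp only [mul_add, add_mul, mul_one, one_mul, Units.mul_inv, mul_smul_comm, smul_mul_assoc]
      rw [mul_assoc (h.val * kk π w o), mul_assoc h.val (kk π w o), ← mul_assoc (kk π w o), z2, mul_zero, smul_zero,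
        add_zero, add_sub_cancel_left, hR, kz_smul_right]
      congr 1
      rw [kz_mul_kk, mul_assoc, mul_assoc,
        show kk π o w * (kz 1 a * ((h⁻¹).val * kk π v v)) = kz 1 a * (kk π o w * (h⁻¹).val * kk π v v) by
          rw [← mul_assoc, kk, kz_mul, mul_assoc _ (h⁻¹).val, ← mul_assoc (kz 1 a) (kz (rk π o w) 1), kz_mul]; simp,
        kk_sandwich, kz_mul, one_mul]
    obtain ⟨c, hc2⟩ := key
    refine hcancel _ ⟨(-2 : F)⁻¹ * c, ?_⟩
    rw [mul_smul, ← hc2, inv_smul_smul₀ (neg_ne_zero.mpr hπ.two)]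

/-- The centraliser of a root element of the first slot lies in the stabiliser. -/
theorem mem_wreath_of_commute (hπ : π.Alt) (hk : 2 ≤ k) (hex : ¬ (Nat.card F = 3 ∧ k = 2))
    (hH : H ≤ U (powS π (t + 1))) (hM : ContainsS π H) (hns : ∀ Z, InC π H Z → ∃ c : F, Z = c • 1)
    (hrec : ∀ a : GL (Fin t → Fin k) F, a ∈ U (powS π t) → kzU 1 a ∈ H → a ∈ Geo.tensorWreathStandard k t F)
    (oo : Fin k) {h : GL (Fin (t + 1) → Fin k) F} (hh : h ∈ H)
    (hc : h.val * kk π (Pi.single oo 1) (Pi.single oo 1) = kk π (Pi.single oo 1) (Pi.single oo 1) * h.val) :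
    h ∈ Geo.tensorWreathStandard k (t + 1) F := by
  classical
  have hk0 : 0 < k := by omega
  haveI : Nonempty (Fin k) := ⟨oo⟩
  set o : Fin k → F := Pi.single oo 1 with ho
  set w := dual π oo
  set ww := π.J oo with hww
  have how : bf π o w = 1 := by rw [bf_single_dual, if_pos rfl]
  have ho0 : o ≠ 0 := fun e => by simpa [ho] using congrFun e oo
  have hJo : π.J ww = oo := π.inv oo
  have hdo : dual π ww = π.ε ww • o := by
    simp only [dual, hJo, ho, ← Pi.single_smul', smul_eq_mul, mul_one]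
  have hne : oo ≠ ww := fun e => by
    have h' := π.ε_J oo
    rw [← hww, ← e, hπ.tau, neg_one_mul] at h'
    have h2 : (2 : F) * π.ε oo = 0 := by linear_combination h'
    exact one_ne_zero (α := F) (by rw [← π.ε_sq oo, (mul_eq_zero.mp h2).resolve_left hπ.two, mul_zero])
  have hε : ∀ i, π.ε i ≠ 0 := fun i e => one_ne_zero (α := F) (by rw [← π.ε_sq i, e, mul_zero])
  -- middle coordinates
  have hmid : ∀ i, i ≠ oo → i ≠ ww → bf π (Pi.single i 1 : Fin k → F) o = 0 ∧
      bf π (Pi.single i 1 : Fin k → F) w = 0 ∧ (Pi.single i 1 : Fin k → F) ≠ 0 ∧ π.J i ≠ oo ∧ π.J i ≠ ww := by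
    intro i h0 h1
    have j0 : π.J i ≠ oo := fun e => h1 (by rw [hww, ← e, π.inv])
    have j1 : π.J i ≠ ww := fun e => h0 (π.J.injective e)
    refine ⟨?_, ?_, fun e => by simpa using congrFun e i, j0, j1⟩
    · rw [bf_single, ho, Pi.single_eq_of_ne j0, mul_zero]
    · rw [bf_single, show w = Pi.single ww (π.ε oo) from rfl, Pi.single_eq_of_ne j1, mul_zero]
  obtain ⟨hR, hL, -⟩ := line_edge hπ how hc
  obtain ⟨hc', hinv, haa⟩ := line_unit hπ hk0 how (hH hh) hc
  set a := blk π h.val w o with ha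
  have ha'a : adj (powS π t) a * a = 1 := mul_eq_one_comm.mp haa
  have ha0 : a ≠ 0 := fun e => by rw [e, zero_mul] at haa; exact zero_ne_one haa
  -- all blocks but the top
  have hcol : ∀ b, blk π h.val b o = bf π o b • a := fun b => kz_cancel (rk_self_ne_zero π ho0) (by
    rw [← kk_sandwich, mul_assoc, hR, kk, kz_mul, rk_mul, one_mul, kz_smul_left, kz_smul_right])
  have hrow : ∀ c, blk π h.val o c = bf π c o • a := fun c => kz_cancel (rk_self_ne_zero π ho0) (by
    rw [← kk_sandwich, hL, kk, kz_mul, rk_mul, mul_one, kz_smul_left, kz_smul_right])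
  have hall : ∀ i j, ∃ c : F, ¬ (i = oo ∧ j = ww) → zblk h.val i j = c • a := by
    intro i j
    by_cases hij : i = oo ∧ j = ww
    · exact ⟨0, fun hn => absurd hij hn⟩
    suffices ∃ c : F, zblk h.val i j = c • a from this.imp fun c hc _ => hc
    rw [zblk_eq_blk (π := π)]
    by_cases hi1 : i = ww
    · subst hi1
      exact ⟨π.ε ww * bf π (Pi.single j 1) o, by rw [hdo, blk_smul_left, hrow, smul_smul]⟩
    by_cases hj0 : j = oo
    · exact ⟨_, by rw [hj0]; exact hcol _⟩
    have hb : ∀ u v : Fin k → F, bf π u o = 0 → bf π v o = 0 → bf π v w = 0 → v ≠ 0 →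
        (∃ c : F, blk π h.val u v = c • a) ∧ ∃ c : F, blk π h.val w v = c • a := fun u v h1 h2 h3 h4 => by
      have := line_blocks hπ hk0 hH hM hns how (inv_mem hh) hc' h1 h2 h3 h4
      rw [inv_inv, hinv, adj_adj] at this
      exact this
    by_cases hi0 : i = oo
    · subst hi0
      obtain ⟨h1, h2, h3, -, -⟩ := hmid j hj0 fun e => hij ⟨rfl, e⟩
      exact (hb _ _ h1 h1 h2 h3).2
    obtain ⟨-, -, -, j0, j1⟩ := hmid i hi0 hi1
    obtain ⟨u1, u2, u3, -, -⟩ := hmid _ j0 j1
    have hdi : dual π i = π.ε i • (Pi.single (π.J i) 1 : Fin k → F) := by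
      simp only [dual, ← Pi.single_smul', smul_eq_mul, mul_one]
    rw [hdi, blk_smul_left]
    by_cases hj1 : j = ww
    · subst hj1
      obtain ⟨c, hc2⟩ := (line_blocks hπ hk0 hH hM hns how hh hc u1 u1 u2 u3).2
      refine ⟨π.ε i * (π.ε oo * -c), ?_⟩
      have he : (Pi.single ww 1 : Fin k → F) = π.ε oo • w := by
        rw [show w = Pi.single ww (π.ε oo) from rfl, ← Pi.single_smul', smul_eq_mul, π.ε_sq]
      have h3 : blk π h.val (Pi.single (π.J i) 1) w = -c • a := by
        have := blk_inv hπ hk0 (hH hh) (Pi.single (π.J i) 1) w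
        rw [hc2] at this
        have h4 := congrArg (adj (powS π t)) this
        rw [adj_smul, adj_adj, adj_neg, adj_adj] at h4
        rw [neg_smul, h4, neg_neg]
      rw [he, blk_smul_right, h3, smul_smul, smul_smul]
      congr 1
      ring
    obtain ⟨h1, h2, h3, -, -⟩ := hmid j hj0 hj1
    obtain ⟨c, hc2⟩ := (hb _ _ u1 h1 h2 h3).1
    exact ⟨π.ε i * c, by rw [hc2, smul_smul]⟩
  choose Lc hLc using hall
  let L : Matrix (Fin k) (Fin k) F := Matrix.of fun i j => if i = oo ∧ j = ww then 0 else Lc i j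
  set E := rk π o o with hE
  have hEe : ∀ i j, E i j = if i = oo ∧ j = ww then π.ε ww else 0 := fun i j => by
    rw [hE, rk, vecMulVec_apply, cv, ho, Pi.single_apply, Pi.single_apply]
    have : π.J j = oo ↔ j = ww := ⟨fun e => by rw [hww, ← e, π.inv], fun e => by rw [e, hJo]⟩
    by_cases hi : i = oo <;> by_cases hj : j = ww <;> simp [hi, hj, this, hJo]
  set Z := π.ε ww • zblk h.val oo ww with hZdef
  have hdec : h.val = kz L a + kz E Z := by
    refine zblk_ext fun i j => ?_
    rw [zblk_add, zblk_kz, zblk_kz, hEe]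
    by_cases hij : i = oo ∧ j = ww
    · obtain ⟨rfl, rfl⟩ := hij
      simp [L, hZdef, smul_smul, π.ε_sq]
    · rw [if_neg hij, zero_smul, add_zero, show L i j = Lc i j from if_neg hij, hLc i j hij]
  have hEE : E * E = 0 := hπ.rk_sq o
  have hLE : L * E = E := kz_cancel_left ha0 (by
    have := hR o
    rwa [hdec, kk, ← hE, add_mul, kz_mul, kz_mul, hEE, kz_zero_left, mul_one, add_zero] at this)
  have hEL : E * L = E := kz_cancel_left ha0 (by
    have := hL o
    rwa [hdec, kk, ← hE, mul_add, kz_mul, kz_mul, hEE, kz_zero_left, one_mul, add_zero] at this)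
  have hadjE : adj π E = -E := hπ.adj_rk' o o
  have hadjLE : adj π L * E = E := by
    have := congrArg (adj π) hEL
    rwa [adj_mul, hadjE, mul_neg, neg_inj] at this
  -- the isometry of the first slot
  set D := adj (powS π t) a * Z - adj (powS π t) Z * a with hD
  have hiso : kz (adj π L * L - 1) (1 : Matrix (Fin t → Fin k) (Fin t → Fin k) F) + kz E D = 0 := by
    have h1 := (mem_U_iff _).mp (hH hh)
    rw [hdec, adj_add, adj_kz, adj_kz, hadjE] at h1
    simp only [add_mul, mul_add, kz_mul, neg_mul, hadjLE, hEL, hEE, neg_zero, kz_zero_left, add_zero, ha'a] at h1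
    rw [← sub_eq_zero] at h1
    rw [← h1, hD, sub_eq_add_neg, kz_add_left, sub_eq_add_neg, kz_add_right, kz_neg_right,
      show -(1 : Matrix (Fin k) (Fin k) F) = (-1 : F) • 1 by simp, kz_smul_left, kz_one,
      show -E = (-1 : F) • E by simp, kz_smul_left]
    module
  have one_ne : (1 : Matrix (Fin t → Fin k) (Fin t → Fin k) F) ≠ 0 := one_ne_zero
  have hLL : adj π L * L = 1 := by
    set M := adj π L * L - 1 with hMd
    have hM0 : ∀ i j, ¬ (i = oo ∧ j = ww) → M i j = 0 := fun i j hij => by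
      have := congrArg (fun X => zblk X i j) hiso
      simp only [zblk_add, zblk_kz, hEe, if_neg hij, zero_smul, add_zero] at this
      exact (smul_eq_zero.mp (this.trans (by ext; rfl))).resolve_right one_ne
    have hMe : M = (π.ε ww * M oo ww) • E := by
      ext i j
      rw [Matrix.smul_apply, hEe]
      by_cases hij : i = oo ∧ j = ww
      · obtain ⟨rfl, rfl⟩ := hij
        rw [if_pos ⟨rfl, rfl⟩, smul_eq_mul, mul_comm, ← mul_assoc, π.ε_sq, one_mul]
      · rw [if_neg hij, smul_zero, hM0 i j hij]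
    have hMs : adj π M = M := by rw [hMd, adj_sub, adj_mul, adj_adj, adj_one]
    rw [hMe, adj_smul, hadjE, smul_neg, neg_eq_iff_add_eq_zero, ← two_smul F, smul_eq_zero] at hMs
    rw [← sub_eq_zero, ← hMd, hMe, hMs.resolve_left hπ.two]
  have hD0 : D = 0 := kz_cancel (rk_self_ne_zero π ho0) (by
    rw [kz_zero_right, ← hE]
    rwa [hLL, sub_self, kz_zero_left, zero_add] at hiso)
  let Lu : GL (Fin k) F := ⟨L, adj π L, mul_eq_one_comm.mp hLL, hLL⟩
  have hLuU : Lu ∈ U π := (mem_U_iff π).mpr hLL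
  let au : GL (Fin t → Fin k) F := ⟨a, adj (powS π t) a, haa, ha'a⟩
  have hauU : au ∈ U (powS π t) := (mem_U_iff _).mpr ha'a
  set Zc := Z * adj (powS π t) a with hZc
  have hLH : kzU Lu (1 : GL (Fin t → Fin k) F) ∈ H := kzU_mem_H hM hLuU (one_mem _)
  set h₁ := (kzU Lu (1 : GL (Fin t → Fin k) F))⁻¹ * h with hh₁
  have hh₁H : h₁ ∈ H := mul_mem (inv_mem hLH) hh
  have hh₁v : h₁.val = kz 1 a + kz E Z := by
    rw [hh₁, Units.val_mul, hdec]
    show kz _ _ * _ = _
    rw [mul_add, kz_mul, kz_mul]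
    show kz (adj π L * L) _ + kz (adj π L * E) _ = _
    rw [hLL, hadjLE]
    simp
  set cu := h₁ * (kzU 1 au)⁻¹ with hcu
  have hcv : cu.val = 1 + kz E Zc := by
    rw [hcu, Units.val_mul, hh₁v]
    show _ * kz _ _ = _
    rw [add_mul, kz_mul, kz_mul, hZc]
    show kz (_ * (1 : GL (Fin k) F)⁻¹.val) (a * adj (powS π t) a) + kz (E * (1 : GL (Fin k) F)⁻¹.val) (Z * adj (powS π t) a) = _
    rw [haa, inv_one, Units.val_one, mul_one, mul_one, kz_one]
  have hci : (cu⁻¹).val = 1 - kz E Zc := left_inv_eq_right_inv (Units.inv_mul _) (by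
    rw [hcv, mul_sub, mul_one, add_mul, one_mul, kz_mul, hEE, kz_zero_left, add_zero, add_sub_cancel_right])
  have key : ∀ S : GL (Fin k) F, S ∈ U π → ∃ g ∈ H, g.val = (1 + kz E Zc) *
      (1 - kz (rk π ((S : Matrix (Fin k) (Fin k) F) *ᵥ o) ((S : Matrix (Fin k) (Fin k) F) *ᵥ o)) Zc) := by
    intro S hS
    have hSH : kzU S (1 : GL (Fin t → Fin k) F) ∈ H := kzU_mem_H hM hS (one_mem _)
    refine ⟨_, mul_mem (mul_mem (mul_mem hh₁H hSH) (inv_mem hh₁H)) (inv_mem hSH), ?_⟩
    have hcomm : kzU 1 au * kzU S (1 : GL (Fin t → Fin k) F) = kzU S 1 * kzU 1 au := by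
      rw [kzU_mul, kzU_mul, one_mul, one_mul, mul_one, mul_one]
    have e : h₁ * kzU S 1 * h₁⁻¹ * (kzU S 1)⁻¹ =
        cu * (kzU S 1 * cu⁻¹ * (kzU S (1 : GL (Fin t → Fin k) F))⁻¹) := by
      rw [show h₁ = cu * kzU 1 au by rw [hcu, inv_mul_cancel_right], mul_assoc cu (kzU 1 au), hcomm]
      group
    rw [e, Units.val_mul cu, hcv, Units.val_mul, Units.val_mul, hci, mul_sub, mul_one, sub_mul, Units.mul_inv]
    congr 2
    show kz _ _ * kz E Zc * kz _ _ = _
    rw [kz_mul, kz_mul, hE, conj_rk π hS]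
    simp
  obtain ⟨ξ, hξ⟩ : ∃ ξ : F, Zc = ξ • 1 := by
    by_cases hm : ∃ i, i ≠ oo ∧ i ≠ ww
    · obtain ⟨i, h0, h1⟩ := hm
      obtain ⟨v1, v2, v3, -, -⟩ := hmid i h0 h1
      set v : Fin k → F := Pi.single i 1
      have hov : bf π o v = 0 := bf_eq_zero_comm π v1
      have hne' : ∀ r : F, o + r • v ≠ 0 := fun r e => by
        have := congrArg (fun u => bf π u w) e
        simp only [bf_add_left, bf_smul_left, how, v2, mul_zero, add_zero, bf_zero_left] at this
        exact one_ne_zero this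
      have hel : ∀ r : F, ∃ g ∈ H, g.val = 1 + kz (E - rk π (o + r • v) (o + r • v)) Zc := by
        intro r
        obtain ⟨S, hS, hSo⟩ := exists_map hπ ho0 (hne' r)
        obtain ⟨g, hg, eg⟩ := key S hS
        refine ⟨g, hg, ?_⟩
        rw [eg, hSo, mul_sub, mul_one, add_mul, one_mul, kz_mul, hE, rk_mul, bf_add_left, bf_smul_left, hπ.self, v1,
          mul_zero, add_zero, zero_smul, kz_zero_left, sub_eq_add_neg (rk π o o), kz_add_left,
          show -rk π (o + r • v) (o + r • v) = (-1 : F) • rk π (o + r • v) (o + r • v) by simp, kz_smul_left,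
          neg_one_smul]
        abel
      obtain ⟨g, hg, eg⟩ := hel 1
      obtain ⟨g', hg', eg'⟩ := hel (-1)
      have hprod : (g * g').val = 1 + kz (rk π v v) ((-2 : F) • Zc) := by
        rw [Units.val_mul, eg, eg', mul_add, mul_one, add_mul, one_mul, kz_mul]
        have e0 : (E - rk π (o + (1 : F) • v) (o + (1 : F) • v)) * (E - rk π (o + (-1 : F) • v) (o + (-1 : F) • v)) = 0 := by
          simp only [hE, mul_sub, sub_mul, rk_mul, bf_add_left, bf_add_right, bf_smul_left, bf_smul_right, hπ.self,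
            v1, hov, mul_zero, add_zero, zero_smul, sub_zero]
        rw [e0, kz_zero_left, add_zero, add_assoc, ← kz_add_left, kz_smul_right, ← kz_smul_left]
        congr 2
        rw [hE]
        simp only [rk_add_left, rk_add_right, rk_smul_left, rk_smul_right, smul_add, smul_smul]
        module
      obtain ⟨c, hc2⟩ := hns _ (InC.of_one hπ hM v3 ⟨_, mul_mem hg hg', hprod⟩)
      exact ⟨(-2 : F)⁻¹ * c, by rw [mul_smul, ← hc2, inv_smul_smul₀ (neg_ne_zero.mpr hπ.two)]⟩
    · push Not at hm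
      have hk2 : k = 2 := by
        have hsub : (Finset.univ : Finset (Fin k)) ⊆ {oo, ww} := fun i _ => by
          by_cases h0 : i = oo
          · simp [h0]
          · simp [hm i h0]
        have := (Finset.card_le_card hsub).trans Finset.card_le_two
        rw [Finset.card_univ, Fintype.card_fin] at this
        omega
      obtain ⟨μ, hμ0, hμ⟩ : ∃ μ : F, μ ≠ 0 ∧ μ * μ ≠ 1 := by
        by_contra hcon
        push Not at hcon
        letI := Fintype.ofFinite F
        have hsub : (Finset.univ : Finset F) ⊆ {0, 1, -1} := fun μ _ => by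
          by_cases h0 : μ = 0
          · simp [h0]
          rcases mul_self_eq_one_iff.mp (hcon μ h0) with e | e <;> simp [e]
        have := (Finset.card_le_card hsub).trans Finset.card_le_three
        rw [Finset.card_univ, ← Nat.card_eq_fintype_card] at this
        have h3 : 3 ≤ Nat.card F := by
          rw [Nat.card_eq_fintype_card]
          refine Fintype.two_lt_card_iff.mpr ⟨0, 1, -1, zero_ne_one, fun e => ?_, fun e => ?_⟩
          · exact one_ne_zero (α := F) (by linear_combination e)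
          · exact hπ.two (by linear_combination e)
        exact hex ⟨by omega, hk2⟩
      obtain ⟨S, hS, -, hSo, -, -⟩ := exists_tor hπ how hμ0
      obtain ⟨g, hg, eg⟩ := key S hS
      have hgv : g.val = 1 + kz (rk π o o) ((1 - μ * μ) • Zc) := by
        rw [eg, hSo, rk_smul_left, rk_smul_right, smul_smul, ← hE, mul_sub, mul_one, add_mul, one_mul, kz_mul,
          mul_smul_comm, hEE, smul_zero, kz_zero_left, add_zero, kz_smul_left, sub_smul, one_smul, sub_eq_add_neg Zc,
          kz_add_right, kz_neg_right, kz_smul_right]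
        abel
      obtain ⟨c, hc2⟩ := hns _ (InC.of_one hπ hM ho0 ⟨g, hg, hgv⟩)
      exact ⟨(1 - μ * μ)⁻¹ * c, by rw [mul_smul, ← hc2, inv_smul_smul₀ (sub_ne_zero.mpr (Ne.symm hμ))]⟩
  have hcst : cu = kzU (st (bf π) o ξ) 1 := Units.ext (by
    rw [hcv, hξ, kzU_coe, st_coe hπ, Units.val_one, kz_add_left, kz_one, kz_smul_left, kz_smul_right, hE])
  have hcH : cu ∈ H := hcst ▸ kzU_mem_H hM (st_mem_isom hπ.form _ _) (one_mem _)
  have hau : au ∈ Geo.tensorWreathStandard k t F := hrec au hauU (by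
    have : kzU 1 au = cu⁻¹ * h₁ := by rw [hcu]; group
    rw [this]; exact mul_mem (inv_mem hcH) hh₁H)
  have : h = kzU Lu 1 * (cu * kzU 1 au) := by rw [hcu, inv_mul_cancel_right, hh₁, mul_inv_cancel_left]
  rw [this, hcst]
  exact mul_mem (kzU_mem _ (one_mem _)) (mul_mem (kzU_mem _ (one_mem _)) (kzU_mem _ hau))

end Cfsg.Agent.WreathS
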