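import Cfsg.Agent.WreathS.End
import Cfsg.Agent.WreathS.CaseB
import Cfsg.Agent.WreathS.Levi2

/-!
Overgroups of the symplectic tensor wreath stabiliser (helper56).
-/

set_option autoImplicit false
set_option linter.unusedSectionVars false

namespace Cfsg.Agent.WreathS

open Matrix Cfsg.Agent.MaxSub Cfsg.Agent.MaxSub.Asch Cfsg.Agent.FG75.SpinTensor Cfsg.Agent.WreathMax

variable {F : Type*} [Field F] [Finite F] {k : ℕ} {π : Sgn F (Fin k)}

theorem commute_slots_succ {t : ℕ} {X : Matrix (Fin (t + 1) → Fin k) (Fin (t + 1) → Fin k) F}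
    (hX : ∀ (j : Fin t) M, X * slot j.succ M = slot j.succ M * X) : ∃ A, X = slot 0 A := by
  have hb : ∀ a b, ∃ c : F, zblk X a b = c • 1 := fun a b => slot_centraliser (T := zblk X a b) fun j M => by
    have h := congrArg (fun Y => zblk Y a b) (hX j M)
    simp only [slot_succ_eq_kz, zblk_mul, zblk_kz, Matrix.one_apply, ite_smul, one_smul, zero_smul, mul_ite, mul_zero,
      ite_mul, zero_mul, Finset.sum_ite_eq, Finset.sum_ite_eq', Finset.mem_univ, if_true] at h
    exact h
  choose c hc using hb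
  refine ⟨Matrix.of c, zblk_ext fun a b => ?_⟩
  rw [slot_zero_eq_kz, zblk_kz, hc, Matrix.of_apply]

/-- An element carrying a slot root to a slot root lies in the stabiliser when all centres are scalar. -/
theorem mem_wreath_of_fusion {t : ℕ} {H : Subgroup (GL (Fin (t + 1) → Fin k) F)} (hπ : π.Alt) (hk : 2 ≤ k)
    (hH : H ≤ U (powS π (t + 1))) (hM : ContainsS π H) (o : Fin k → F) (ho : o ≠ 0)
    (hcent : ∀ h ∈ H, h.val * kk π o o = kk π o o * h.val → h ∈ Geo.tensorWreathStandard k (t + 1) F)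
    {g : GL (Fin (t + 1) → Fin k) F} (hg : g ∈ H) {r : F}
    (hr : conjHom g (slot 0 (rk π o o)) = r • slot 0 (rk π o o)) :
    g ∈ Geo.tensorWreathStandard k (t + 1) F := by
  classical
  have hk0 : 0 < k := by omega
  have hr0 : r ≠ 0 := fun e => by
    rw [e, zero_smul, ← map_zero (conjHom g)] at hr
    exact rk_self_ne_zero π ho (slot_injective hk0 0 ((conjHom_injective g hr).trans (slot_zero' 0).symm))
  -- elements commuting with the root go to such elements
  have hcomm : ∀ (j : Fin t) M, slot (0 : Fin (t + 1)) (rk π o o) * conjHom g (slot j.succ M) =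
      conjHom g (slot j.succ M) * slot (0 : Fin (t + 1)) (rk π o o) := fun j M => by
    have h := congrArg (conjHom g) (slot_comm (Fin.succ_ne_zero j).symm (rk π o o) M)
    rw [map_mul, map_mul, hr, smul_mul_assoc, mul_smul_comm] at h
    exact smul_right_injective _ hr0 h
  have hroot : ∀ (j : Fin t) x, x ≠ 0 → ∃ i B, conjHom g (slot j.succ (rk π x x)) = slot i B := by
    intro j x hx
    set u := sRoot π j.succ x 1
    have huH : u ∈ H := sRoot_mem hπ hM _ _ _
    have hv : (g * u * g⁻¹).val = 1 + conjHom g (slot j.succ (rk π x x)) := by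
      rw [Units.val_mul, Units.val_mul, sRoot_coe hπ, one_smul, conj_one_add, ← conjHom_apply]
    have hW : g * u * g⁻¹ ∈ Geo.tensorWreathStandard k (t + 1) F :=
      hcent _ (mul_mem (mul_mem hg huH) (inv_mem hg)) (by
        rw [hv, kk, ← slot_zero_eq_kz, add_mul, mul_add, one_mul, mul_one, hcomm])
    obtain ⟨i, y, d, -, -, e⟩ := root_image hπ hk (Nat.succ_pos t) hx one_ne_zero hW
      (hH (mul_mem (mul_mem hg huH) (inv_mem hg)))
    refine ⟨i, d • rk π y y, ?_⟩
    have h := congrArg Units.val e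
    rw [hv, sRoot_coe hπ, add_right_inj] at h
    rw [h, slot_smul']
  choose τ hτ using fun j => range_of_roots hπ hk0 (i := (Fin.succ j : Fin (t + 1))) (hroot j)
  have hτ0 : ∀ j, τ j ≠ 0 := fun j e => by
    obtain ⟨a, ha⟩ := exists_conj_of_range hk0 (hτ j)
    obtain ⟨c, hc⟩ := Matrix.mem_range_scalar_of_commute_single (M := rk π o o) fun u v _ => by
      have h := hcomm j (((a⁻¹ : GL (Fin k) F) : Matrix (Fin k) (Fin k) F) * Matrix.single u v 1 *
        (a : Matrix (Fin k) (Fin k) F))
      rw [ha, e, ← slot_mul', ← slot_mul'] at h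
      simp only [mul_assoc, Units.mul_inv, mul_one, Units.mul_inv_cancel_left] at h
      exact (slot_injective hk0 0 h).symm
    have h2 := hπ.rk_sq o
    haveI : Nonempty (Fin k) := ⟨⟨0, hk0⟩⟩
    rw [← hc, ← map_mul, ← map_zero (Matrix.scalar (Fin k))] at h2
    have hc0 : c = 0 := mul_self_eq_zero.mp (Matrix.scalar_inj.mp h2)
    exact rk_self_ne_zero π ho (by rw [← hc, hc0, map_zero])
  choose ρ hρ using fun j => Fin.exists_succ_eq.mpr (hτ0 j)
  have hρi : Function.Injective ρ := fun i i' e => by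
    by_contra hne
    refine target_injective hk (fun e' => hne (Fin.succ_injective _ e')) (hτ i) ?_
    rw [← hρ i, e, hρ i']
    exact hτ i'
  have hρs := (Finite.injective_iff_surjective.mp hρi)
  refine mem_wreath_of_ranges hk (Nat.succ_pos t) g (Fin.cons 0 τ) fun i M => ?_
  refine Fin.cases ?_ (fun j => ?_) i
  · rw [Fin.cons_zero]
    obtain ⟨A, hA⟩ := commute_slots_succ (X := conjHom g (slot 0 M)) fun j N => by
      obtain ⟨j', rfl⟩ := hρs j
      obtain ⟨a, ha⟩ := exists_conj_of_range hk0 (hτ j')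
      have e : slot (ρ j').succ N = conjHom g (slot j'.succ
          (((a⁻¹ : GL (Fin k) F) : Matrix (Fin k) (Fin k) F) * N * (a : Matrix (Fin k) (Fin k) F))) := by
        rw [ha, hρ]
        simp [mul_assoc]
      rw [e, ← map_mul, ← map_mul, slot_comm (Fin.succ_ne_zero j').symm]
    exact ⟨A, hA.symm⟩
  · rw [Fin.cons_succ]; exact hτ j M

/-- A non-identity vector frame: a slot root is carried to the root of the first slot. -/
theorem exists_frame {t : ℕ} (hπ : π.Alt) (o : Fin k → F) (ho : o ≠ 0) (i : Fin (t + 1)) {x : Fin k → F}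
    (hx : x ≠ 0) : ∃ p : GL (Fin (t + 1) → Fin k) F, p ∈ Ws π (t + 1) ∧ conjHom p (slot 0 (rk π o o)) = slot i (rk π x x) := by
  classical
  obtain ⟨A, hA, hAo⟩ := exists_map hπ ho hx
  refine ⟨tensGL (Function.update (1 : Fin (t + 1) → GL (Fin k) F) i A) * factorPerm (Equiv.swap 0 i),
    mul_mem (tensGL_mem_Ws π fun l => ?_) (factorPerm_mem_Ws π _), ?_⟩
  · rcases eq_or_ne l i with rfl | hl
    · rw [Function.update_self]; exact hA
    · rw [Function.update_of_ne hl]; exact one_mem _
  · rw [slot_conj_wreath, Equiv.swap_apply_left, Function.update_self, conj_rk π hA, hAo]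

/-- An overgroup outside the stabiliser has a centre element which is not scalar. -/
theorem exists_inC_of_not_le (hπ : π.Alt) (hk : 2 ≤ k) (hex : ¬ (Nat.card F = 3 ∧ k = 2)) :
    ∀ (t : ℕ) (H : Subgroup (GL (Fin (t + 1) → Fin k) F)), H ≤ U (powS π (t + 1)) → ContainsS π H →
      ¬ H ≤ Geo.tensorWreathStandard k (t + 1) F → ∃ Z, InC π H Z ∧ ∀ c : F, Z ≠ c • 1 := by
  intro t
  induction t with
  | zero => exact fun H _ _ hne => absurd (fun g _ => mem_wreath_one g) hne
  | succ t ih =>
    intro H hH hM hne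
    classical
    letI := Fintype.ofFinite F
    by_contra hcon
    push Not at hcon
    have hk0 : 0 < k := by omega
    -- the other slots
    have hrec : ∀ a : GL (Fin (t + 1) → Fin k) F, a ∈ U (powS π (t + 1)) → kzU 1 a ∈ H →
        a ∈ Geo.tensorWreathStandard k (t + 1) F := by
      let φ : GL (Fin (t + 1) → Fin k) F →* GL (Fin (t + 1 + 1) → Fin k) F :=
        MonoidHom.mk' (fun B => kzU 1 B) fun B C => by rw [kzU_mul, one_mul]
      let K : Subgroup (GL (Fin (t + 1) → Fin k) F) := U (powS π (t + 1)) ⊓ H.comap φ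
      have hKM : ContainsS π K := containsS_of_le π fun B hB => ⟨Ws_le_U π hB, kzU_mem_H hM (one_mem _) hB⟩
      intro a haU haH
      by_contra haW
      obtain ⟨Z, hZ, hZs⟩ := ih K inf_le_left hKM (fun hle => haW (hle ⟨haU, haH⟩))
      obtain ⟨P, hP, ⟨l, hl⟩, hPin⟩ := InC.exists_pure hπ hKM hZ hZs
      let x : Fin k → F := Pi.single ⟨0, hk0⟩ 1
      have hx : x ≠ 0 := fun e => by simpa [x] using congrFun e ⟨0, hk0⟩
      obtain ⟨g, ⟨-, hgH⟩, eg⟩ := hPin x
      have hpure : IsPure π H (Fin.cons 1 (Fin.cons (rk π x x) P)) := by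
        refine ⟨fun i => ?_, 1, one_ne_zero, φ g, hgH, ?_⟩
        · refine Fin.cases ?_ (fun i => ?_) i
          · rw [Fin.cons_zero]; exact Or.inl rfl
          · rw [Fin.cons_succ]
            refine Fin.cases ?_ (fun j => ?_) i
            · rw [Fin.cons_zero]; exact Or.inr (Or.inl ⟨x, hx, rfl⟩)
            · rw [Fin.cons_succ]; exact hP j
        · show kz (1 : GL (Fin k) F).val g.val = _
          rw [eg, Units.val_one, kz_add_right, kz_one, one_smul, tens_eq_kz]
          simp only [Fin.cons_zero, Fin.cons_succ]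
          rw [show tens (fun j => (Fin.cons (rk π x x) P : Fin (t + 1) → Matrix (Fin k) (Fin k) F) j) =
              kz (rk π x x) (tens P) by rw [tens_eq_kz]; simp only [Fin.cons_zero, Fin.cons_succ]]
      obtain ⟨Z', hZ', hZ's⟩ := exists_inC_of_isPure hπ hk0 hM hpure
        (l₁ := (0 : Fin (t + 1)).succ) (l₂ := l.succ.succ)
        (fun e => Fin.succ_ne_zero l (Fin.succ_injective _ e).symm)
        (by rw [Fin.cons_succ, Fin.cons_zero]; exact ⟨x, hx, rfl⟩)
        (by rw [Fin.cons_succ, Fin.cons_succ]; exact hl)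
      exact absurd (hcon Z' hZ') (by push Not; exact hZ's)
    let oo : Fin k := ⟨0, hk0⟩
    have ho : (Pi.single oo 1 : Fin k → F) ≠ 0 := fun e => by simpa using congrFun e oo
    refine hne (le_wreath_of_moves hπ hk (by rwa [← Nat.card_eq_fintype_card]) (by omega) (sRoot_mem hπ hM) ?_)
    intro g hg hgW i x c hx hc hin
    have hinU : g⁻¹ * sRoot π i x c * g ∈ U (powS π (t + 1 + 1)) :=
      hH (mul_mem (mul_mem (inv_mem hg) (sRoot_mem hπ hM i x c)) hg)
    obtain ⟨j, y, d, hy, hd, e⟩ := root_image hπ hk (Nat.succ_pos _) (g := g⁻¹) hx hc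
      (by rwa [inv_inv]) (by rwa [inv_inv])
    rw [inv_inv] at e
    obtain ⟨p, hpS, hp⟩ := exists_frame hπ _ ho i hx
    obtain ⟨q, hqS, hq⟩ := exists_frame hπ _ ho j hy
    have h1 : conjHom g (slot j (rk π y y)) = (c / d) • slot i (rk π x x) := by
      have h := congrArg Units.val (show g * sRoot π j y d * g⁻¹ = sRoot π i x c by rw [← e]; group)
      rw [Units.val_mul, Units.val_mul, sRoot_coe hπ, sRoot_coe hπ, conj_one_add, add_right_inj, ← conjHom_apply,
        map_smul] at h
      rw [div_eq_inv_mul, ← smul_smul, ← h, inv_smul_smul₀ hd]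
    have hmem := mem_wreath_of_fusion hπ hk hH hM _ ho
      (fun h hh hcm => mem_wreath_of_commute hπ hk hex hH hM (fun Z hZ => hcon Z hZ) hrec oo hh hcm)
      (g := p⁻¹ * g * q) (mul_mem (mul_mem (inv_mem (ContainsS.le π hM hpS)) hg) (ContainsS.le π hM hqS)) (r := c / d) (by
        rw [conjHom_mul', conjHom_mul', hq, h1, map_smul, ← hp, ← conjHom_mul', inv_mul_cancel]
        congr 1
        simp [conjHom_apply])
    refine hgW ?_
    have := mul_mem (mul_mem (Ws_le_wreath π hpS) hmem) (inv_mem (Ws_le_wreath π hqS))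
    simpa [mul_assoc] using this

/-- An overgroup outside the stabiliser of an odd power contains every isometry. -/
theorem isom_le_of_not_le {t : ℕ} (hπ : π.Alt) (hk : 2 ≤ k) (hodd : Odd (t + 1))
    (hex : ¬ (Nat.card F = 3 ∧ k = 2)) {H : Subgroup (GL (Fin (t + 1) → Fin k) F)}
    (hH : H ≤ U (powS π (t + 1))) (hM : ContainsS π H) (hne : ¬ H ≤ Geo.tensorWreathStandard k (t + 1) F) :
    U (powS π (t + 1)) ≤ H := by
  have hk0 : 0 < k := by omega
  obtain ⟨Z, hZ, hZs⟩ := exists_inC_of_not_le hπ hk hex t H hH hM hne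
  obtain ⟨P, hP, ⟨l, hl⟩, hPin⟩ := InC.exists_pure hπ hM hZ hZs
  let x : Fin k → F := Pi.single ⟨0, hk0⟩ 1
  have hx : x ≠ 0 := fun e => by simpa [x] using congrFun e ⟨0, hk0⟩
  refine isom_le_of_isPure hπ hk0 hodd hH hM (InC.isPure hx hP hPin) (l₁ := 0) (l₂ := l.succ)
    (Fin.succ_ne_zero _).symm ?_ ?_
  · rw [Fin.cons_zero]; exact Or.inl ⟨x, hx, rfl⟩
  · rw [Fin.cons_succ]; exact hl

end Cfsg.Agent.WreathS
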