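import Cfsg.Agent.MaxSub.Alt
import Cfsg.Agent.WreathMax.Kz
import Cfsg.Agent.WreathMax.RootClass

/-!
Bilinear forms given by an involution of the index set with signs, and their tensor powers (helper56).

The form is `f x y = ∑ a, ε a * y (J a) * x a`; it is symmetric for `τ = 1` and skew for `τ = -1`.
-/

set_option autoImplicit false
set_option linter.unusedSectionVars false

namespace Cfsg.Agent.WreathS

open Matrix Cfsg.Agent.MaxSub Cfsg.Agent.MaxSub.Asch Cfsg.Agent.FG75.SpinTensor Cfsg.Agent.WreathMax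

variable {F : Type*} [Field F]

/-- A signed involution of an index set. -/
structure Sgn (F : Type*) [Field F] (ι : Type) where
  J : Equiv.Perm ι
  inv : ∀ a, J (J a) = a
  ε : ι → F
  τ : F
  ε_sq : ∀ a, ε a * ε a = 1
  τ_sq : τ * τ = 1
  ε_J : ∀ a, ε (J a) = τ * ε a

variable {ι : Type} [Fintype ι] [DecidableEq ι] (π : Sgn F ι)

/-- The covector of a vector. -/
def cv (y : ι → F) : ι → F := fun a => π.ε a * y (π.J a)

/-- The form. -/
def bf (x y : ι → F) : F := cv π y ⬝ᵥ x

/-- The map `z ↦ f(z, y) x`. -/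
def rk (x y : ι → F) : Matrix ι ι F := vecMulVec x (cv π y)

/-- The adjoint. -/
def adj (X : Matrix ι ι F) : Matrix ι ι F :=
  Matrix.of fun a b => π.ε (π.J a) * π.ε (π.J b) * X (π.J b) (π.J a)

theorem cv_add (x y : ι → F) : cv π (x + y) = cv π x + cv π y := by funext a; simp [cv, mul_add]

theorem cv_smul (c : F) (x : ι → F) : cv π (c • x) = c • cv π x := by funext a; simp [cv, mul_left_comm]

theorem cv_zero : cv π (0 : ι → F) = 0 := by funext a; simp [cv]

theorem bf_add_left (x x' y : ι → F) : bf π (x + x') y = bf π x y + bf π x' y := dotProduct_add _ _ _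

theorem bf_smul_left (c : F) (x y : ι → F) : bf π (c • x) y = c * bf π x y := dotProduct_smul c _ _

theorem bf_add_right (x y y' : ι → F) : bf π x (y + y') = bf π x y + bf π x y' := by
  rw [bf, cv_add, add_dotProduct]; rfl

theorem bf_smul_right (c : F) (x y : ι → F) : bf π x (c • y) = c * bf π x y := by
  rw [bf, cv_smul, smul_dotProduct, smul_eq_mul]; rfl

theorem bf_zero_left (y : ι → F) : bf π 0 y = 0 := dotProduct_zero _

theorem bf_zero_right (x : ι → F) : bf π x 0 = 0 := by rw [bf, cv_zero, zero_dotProduct]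

theorem bf_sub_left (x x' y : ι → F) : bf π (x - x') y = bf π x y - bf π x' y := dotProduct_sub _ _ _

theorem bf_neg_left (x y : ι → F) : bf π (-x) y = -bf π x y := dotProduct_neg _ _

theorem bf_neg_right (x y : ι → F) : bf π x (-y) = -bf π x y := by
  rw [← neg_one_smul F y, bf_smul_right, neg_one_mul]

theorem bf_sub_right (x y y' : ι → F) : bf π x (y - y') = bf π x y - bf π x y' := by
  rw [sub_eq_add_neg, bf_add_right, bf_neg_right, sub_eq_add_neg]

theorem bf_flip (x y : ι → F) : bf π y x = π.τ * bf π x y := by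
  simp only [bf, dotProduct, cv, Finset.mul_sum]
  rw [← Equiv.sum_comp π.J]
  exact Finset.sum_congr rfl fun a _ => by rw [π.inv, π.ε_J]; ring

theorem bf_single (a : ι) (y : ι → F) : bf π (Pi.single a 1) y = π.ε a * y (π.J a) := by
  simp [bf, cv]

theorem single_bf (x : ι → F) (b : ι) : bf π x (Pi.single b 1) = π.τ * (π.ε b * x (π.J b)) := by
  rw [bf_flip, bf_single]

theorem exists_left_ne {y : ι → F} (hy : y ≠ 0) : ∃ x, bf π x y ≠ 0 := by
  obtain ⟨a, ha⟩ := Function.ne_iff.mp hy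
  refine ⟨Pi.single (π.J a) 1, ?_⟩
  rw [bf_single, π.inv]
  exact mul_ne_zero (fun h => one_ne_zero (α := F) (by rw [← π.ε_sq (π.J a), h, mul_zero])) ha

theorem τ_ne : π.τ ≠ 0 := fun h => one_ne_zero (α := F) (by rw [← π.τ_sq, h, mul_zero])

theorem bf_eq_zero_comm {x y : ι → F} (h : bf π x y = 0) : bf π y x = 0 := by rw [bf_flip, h, mul_zero]

theorem exists_right_eq_one {x : ι → F} (hx : x ≠ 0) : ∃ y, bf π x y = 1 := by
  obtain ⟨y, hy⟩ := exists_left_ne π hx
  refine ⟨(bf π x y)⁻¹ • y, ?_⟩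
  rw [bf_smul_right, inv_mul_cancel₀]
  rw [bf_flip]
  exact mul_ne_zero (τ_ne π) hy

theorem rk_mulVec (x y z : ι → F) : rk π x y *ᵥ z = bf π z y • x := by
  rw [rk, vecMulVec_mulVec]
  simp [bf]

theorem rk_mul (x y z w : ι → F) : rk π x y * rk π z w = bf π z y • rk π x w := by
  rw [rk, rk, vecMulVec_mul_vecMulVec, rk, bf]
  ext a b
  simp [vecMulVec_apply, mul_left_comm]

theorem rk_add_left (x x' y : ι → F) : rk π (x + x') y = rk π x y + rk π x' y := add_vecMulVec _ _ _

theorem rk_add_right (x y y' : ι → F) : rk π x (y + y') = rk π x y + rk π x y' := by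
  rw [rk, cv_add, vecMulVec_add]; rfl

theorem rk_smul_left (c : F) (x y : ι → F) : rk π (c • x) y = c • rk π x y := smul_vecMulVec c _ _

theorem rk_smul_right (c : F) (x y : ι → F) : rk π x (c • y) = c • rk π x y := by
  rw [rk, cv_smul, vecMulVec_smul]; rfl

theorem rk_zero_left (y : ι → F) : rk π 0 y = 0 := zero_vecMulVec _

theorem rk_zero_right (x : ι → F) : rk π x 0 = 0 := by rw [rk, cv_zero, vecMulVec_zero]

theorem rk_self_ne_zero {x : ι → F} (hx : x ≠ 0) : rk π x x ≠ 0 := fun h => by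
  obtain ⟨y, hy⟩ := exists_right_eq_one π hx
  have h' := congrArg (fun X => X *ᵥ y) h
  simp only [rk_mulVec, zero_mulVec] at h'
  rw [bf_flip, hy, mul_one] at h'
  exact smul_ne_zero (τ_ne π) hx h'

theorem mul_rk (A : Matrix ι ι F) (x y : ι → F) : A * rk π x y = rk π (A *ᵥ x) y := mul_vecMulVec A x _

theorem trace_rk (x y : ι → F) : (rk π x y).trace = bf π x y := by
  rw [rk, trace_vecMulVec, bf, dotProduct_comm]

theorem adj_mulVec (A : Matrix ι ι F) (x y : ι → F) :
    bf π (A *ᵥ x) y = bf π x (adj π A *ᵥ y) := by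
  simp only [bf, cv, dotProduct, Matrix.mulVec, adj, Matrix.of_apply, Finset.mul_sum, Finset.sum_mul, π.inv]
  rw [Finset.sum_comm]
  refine Finset.sum_congr rfl fun b _ => ?_
  rw [← Equiv.sum_comp π.J]
  refine Finset.sum_congr rfl fun a _ => ?_
  rw [π.inv]
  linear_combination -(π.ε (π.J a) * y a * A (π.J a) b * x b) * π.ε_sq b

theorem adj_adj (X : Matrix ι ι F) : adj π (adj π X) = X := by
  ext a b
  simp only [adj, Matrix.of_apply, π.inv]
  rw [π.ε_J, π.ε_J]
  linear_combination (π.τ * π.τ) * (π.ε b * π.ε b) * X a b * π.ε_sq a + π.τ * π.τ * X a b * π.ε_sq b +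
    X a b * π.τ_sq

theorem adj_add (X Y : Matrix ι ι F) : adj π (X + Y) = adj π X + adj π Y := by ext a b; simp [adj, mul_add]

theorem adj_sub (X Y : Matrix ι ι F) : adj π (X - Y) = adj π X - adj π Y := by ext a b; simp [adj, mul_sub]

theorem adj_neg (X : Matrix ι ι F) : adj π (-X) = -adj π X := by ext a b; simp [adj]

theorem adj_zero : adj π (0 : Matrix ι ι F) = 0 := by ext a b; simp [adj]

theorem adj_smul (c : F) (X : Matrix ι ι F) : adj π (c • X) = c • adj π X := by
  ext a b; simp [adj, mul_left_comm]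

theorem adj_one : adj π (1 : Matrix ι ι F) = 1 := by
  ext a b
  rcases eq_or_ne a b with rfl | h
  · simp [adj, π.ε_sq]
  · simp [adj, h, π.J.injective.ne h.symm]

theorem adj_mul (X Y : Matrix ι ι F) : adj π (X * Y) = adj π Y * adj π X := by
  ext a b
  simp only [adj, Matrix.mul_apply, Matrix.of_apply, Finset.mul_sum]
  rw [← Equiv.sum_comp π.J]
  refine Finset.sum_congr rfl fun c _ => ?_
  linear_combination -(π.ε (π.J a) * π.ε (π.J b) * X (π.J b) (π.J c) * Y (π.J c) (π.J a)) * π.ε_sq (π.J c)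

theorem adj_rk (x y : ι → F) : adj π (rk π x y) = π.τ • rk π y x := by
  ext a b
  simp only [adj, rk, cv, vecMulVec_apply, Matrix.of_apply, Matrix.smul_apply, smul_eq_mul, π.inv]
  rw [π.ε_J b]
  linear_combination π.τ * π.ε b * x (π.J b) * y a * π.ε_sq (π.J a)

theorem rk_mul_left (A : Matrix ι ι F) (x y : ι → F) : rk π x y * A = rk π x (adj π A *ᵥ y) := by
  refine Matrix.ext_of_mulVec_single fun b => ?_
  rw [← mulVec_mulVec, rk_mulVec, rk_mulVec, ← adj_mulVec]

/-- The isometry group. -/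
abbrev U : Subgroup (GL ι F) := isom (bf π)

theorem mem_U_iff {g : GL ι F} : g ∈ U π ↔ adj π (g : Matrix ι ι F) * (g : Matrix ι ι F) = 1 := by
  rw [mem_isom]
  constructor
  · intro h
    refine Matrix.ext_of_mulVec_single fun b => ?_
    rw [← mulVec_mulVec, one_mulVec]
    funext a
    have h1 := h (Pi.single (π.J a) 1) (Pi.single b 1)
    rw [adj_mulVec, bf_single, bf_single, π.inv] at h1
    exact mul_left_cancel₀ (fun e => one_ne_zero (α := F) (by rw [← π.ε_sq (π.J a), e, mul_zero])) h1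
  · intro h u v
    rw [adj_mulVec, mulVec_mulVec, h, one_mulVec]

theorem inv_eq_adj {g : GL ι F} (hg : g ∈ U π) :
    ((g⁻¹ : GL ι F) : Matrix ι ι F) = adj π (g : Matrix ι ι F) := by
  have h := congrArg (· * ((g⁻¹ : GL ι F) : Matrix ι ι F)) ((mem_U_iff π).mp hg)
  simp only [mul_assoc, Units.mul_inv, mul_one, one_mul] at h
  exact h.symm

/-- Conjugating a rank one map by an isometry. -/
theorem conj_rk {g : GL ι F} (hg : g ∈ U π) (x y : ι → F) :
    (g : Matrix ι ι F) * rk π x y * ((g⁻¹ : GL ι F) : Matrix ι ι F) =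
      rk π ((g : Matrix ι ι F) *ᵥ x) ((g : Matrix ι ι F) *ᵥ y) := by
  rw [inv_eq_adj π hg, mul_rk, rk_mul_left, adj_adj]

theorem bf_bilinear : Geo.IsBilinearForm (bf π) where
  add_left := bf_add_left π
  smul_left := bf_smul_left π
  add_right := bf_add_right π
  smul_right := bf_smul_right π

theorem bf_isSymplectic (hτ : π.τ = -1) (two : (2 : F) ≠ 0) : Geo.IsSymplecticForm (bf π) where
  bilinear := bf_bilinear π
  skew v w := by rw [bf_flip π w v, hτ, neg_one_mul]
  alternating v := by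
    have h := bf_flip π v v
    rw [hτ] at h
    exact (mul_eq_zero.mp (show (2 : F) * bf π v v = 0 by linear_combination h)).resolve_left two
  nondegenerate v hv := by
    obtain ⟨x, hx⟩ := exists_left_ne π hv
    exact ⟨⟨x, hx⟩, ⟨x, fun h => hx (bf_eq_zero_comm π h)⟩⟩

/-! ### Tensor powers -/

variable {k t : ℕ} (σ₁ : Sgn F (Fin k))

/-- The power of a signed involution. -/
def powS (t : ℕ) : Sgn F (Fin t → Fin k) where
  J := Equiv.piCongrRight fun _ => σ₁.J
  inv a := funext fun i => σ₁.inv (a i)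
  ε a := ∏ i, σ₁.ε (a i)
  τ := σ₁.τ ^ t
  ε_sq a := by rw [← Finset.prod_mul_distrib]; exact Finset.prod_eq_one fun i _ => σ₁.ε_sq _
  τ_sq := by rw [← mul_pow, σ₁.τ_sq, one_pow]
  ε_J a := by
    simp only [Equiv.piCongrRight_apply, Pi.map_apply, σ₁.ε_J, Finset.prod_mul_distrib, Finset.prod_const,
      Finset.card_univ, Fintype.card_fin]

theorem powS_apply (a : Fin t → Fin k) (i : Fin t) : (powS σ₁ t).J a i = σ₁.J (a i) := rfl

theorem powS_cons (a : Fin k) (z : Fin t → Fin k) :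
    (powS σ₁ (t + 1)).J (Fin.cons a z) = Fin.cons (σ₁.J a) ((powS σ₁ t).J z) := by
  funext i
  refine Fin.cases ?_ (fun j => ?_) i <;> simp [powS_apply]

theorem adj_tens (A : Fin t → Matrix (Fin k) (Fin k) F) :
    adj (powS σ₁ t) (tens A) = tens fun i => adj σ₁ (A i) := by
  ext a b
  simp [adj, tens_apply, powS, Finset.prod_mul_distrib]

theorem adj_slot (i : Fin t) (A : Matrix (Fin k) (Fin k) F) :
    adj (powS σ₁ t) (slot i A) = slot i (adj σ₁ A) := by
  rw [slot, adj_tens, slot]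
  congr 1
  funext j
  rcases eq_or_ne j i with rfl | hj
  · simp
  · rw [Function.update_of_ne hj, Function.update_of_ne hj, Pi.one_apply, adj_one]

theorem adj_kz (A : Matrix (Fin k) (Fin k) F) (B : Matrix (Fin t → Fin k) (Fin t → Fin k) F) :
    adj (powS σ₁ (t + 1)) (kz A B) = kz (adj σ₁ A) (adj (powS σ₁ t) B) := by
  ext a b
  simp only [adj, kz_apply, Matrix.of_apply, powS, Fin.prod_univ_succ]
  rw [show Fin.tail ((Equiv.piCongrRight fun _ : Fin (t + 1) => σ₁.J) b) =
      (Equiv.piCongrRight fun _ : Fin t => σ₁.J) (Fin.tail b) from rfl,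
    show Fin.tail ((Equiv.piCongrRight fun _ : Fin (t + 1) => σ₁.J) a) =
      (Equiv.piCongrRight fun _ : Fin t => σ₁.J) (Fin.tail a) from rfl]
  simp only [Equiv.piCongrRight_apply, Pi.map_apply, Fin.tail]
  ring

theorem zblk_adj (X : Matrix (Fin (t + 1) → Fin k) (Fin (t + 1) → Fin k) F) (a b : Fin k) :
    zblk (adj (powS σ₁ (t + 1)) X) a b =
      (σ₁.ε (σ₁.J a) * σ₁.ε (σ₁.J b)) • adj (powS σ₁ t) (zblk X (σ₁.J b) (σ₁.J a)) := by
  ext z z'
  simp only [zblk, adj, Matrix.of_apply, powS_cons, Matrix.smul_apply, smul_eq_mul]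
  simp only [powS, Fin.prod_univ_succ, Fin.cons_zero, Fin.cons_succ]
  ring

/-- A pure tensor of a vector of the first slot and a vector of the others. -/
def cz (x : Fin k → F) (z : (Fin t → Fin k) → F) : (Fin (t + 1) → Fin k) → F :=
  fun a => x (a 0) * z (Fin.tail a)

/-- A pure tensor. -/
def pv (x : Fin t → Fin k → F) : (Fin t → Fin k) → F := fun a => ∏ i, x i (a i)

theorem pv_cons (x : Fin k → F) (y : Fin t → Fin k → F) : pv (Fin.cons x y) = cz x (pv y) := by
  funext a
  simp [pv, cz, Fin.prod_univ_succ, Fin.tail]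

theorem kz_mulVec_cz (A : Matrix (Fin k) (Fin k) F) (B : Matrix (Fin t → Fin k) (Fin t → Fin k) F)
    (x : Fin k → F) (z : (Fin t → Fin k) → F) : kz A B *ᵥ cz x z = cz (A *ᵥ x) (B *ᵥ z) := by
  funext a
  simp only [Matrix.mulVec, dotProduct, cz, kz_apply, sum_cons, Fin.cons_zero, Fin.tail_cons, Finset.sum_mul,
    Finset.mul_sum]
  rw [Finset.sum_comm (γ := Fin k)]
  exact Finset.sum_congr rfl fun b _ => Finset.sum_congr rfl fun w _ => by ring

theorem tens_mulVec_pv (A : Fin t → Matrix (Fin k) (Fin k) F) (x : Fin t → Fin k → F) :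
    tens A *ᵥ pv x = pv fun i => A i *ᵥ x i := by
  classical
  funext a
  simp only [Matrix.mulVec, dotProduct, pv, tens_apply, ← Finset.prod_mul_distrib]
  rw [Finset.prod_univ_sum]
  exact Finset.sum_congr (by simp) fun b _ => rfl

theorem rk_pv (x y : Fin t → Fin k → F) :
    rk (powS σ₁ t) (pv x) (pv y) = tens fun i => rk σ₁ (x i) (y i) := by
  ext a b
  simp only [rk, cv, pv, vecMulVec_apply, tens_apply]
  simp [powS, Finset.prod_mul_distrib]

theorem bf_cz (x y : Fin k → F) (z z' : (Fin t → Fin k) → F) :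
    bf (powS σ₁ (t + 1)) (cz x z) (cz y z') = bf σ₁ x y * bf (powS σ₁ t) z z' := by
  simp only [bf, dotProduct, cv, cz, sum_cons, Fin.cons_zero, Fin.tail_cons, powS_cons,
    Finset.sum_mul, Finset.mul_sum]
  rw [Finset.sum_comm (γ := Fin k)]
  refine Finset.sum_congr rfl fun b _ => Finset.sum_congr rfl fun w _ => ?_
  simp only [powS, Fin.prod_univ_succ, Fin.cons_zero, Fin.cons_succ]
  ring

theorem adj_factorPerm (σ : Equiv.Perm (Fin t)) :
    adj (powS σ₁ t) (factorPerm σ : GL (Fin t → Fin k) F).val = (factorPerm σ : GL (Fin t → Fin k) F).valᵀ := by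
  ext a b
  simp only [adj, factorPerm, Matrix.of_apply, Matrix.transpose_apply]
  have hiff : ((powS σ₁ t).J a = (powS σ₁ t).J b ∘ σ) ↔ (a = b ∘ σ) := by
    constructor
    · intro h
      funext i
      exact σ₁.J.injective (congrFun h i)
    · intro h
      funext i
      simp [powS_apply, h]
  by_cases h : a = b ∘ σ
  · rw [if_pos h, if_pos (hiff.mpr h), mul_one]
    have e : (powS σ₁ t).ε ((powS σ₁ t).J a) = (powS σ₁ t).ε ((powS σ₁ t).J b) := by
      rw [hiff.mpr h]
      simp only [powS]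
      exact Equiv.prod_comp σ fun i => σ₁.ε (σ₁.J (b i))
    rw [e, (powS σ₁ t).ε_sq]
  · rw [if_neg h, if_neg (hiff.not.mpr h), mul_zero]

theorem factorPerm_mem_U (σ : Equiv.Perm (Fin t)) : (factorPerm σ : GL (Fin t → Fin k) F) ∈ U (powS σ₁ t) := by
  rw [mem_U_iff, adj_factorPerm, factorPerm_transpose_mul]

theorem tensGL_mem_U {gs : Fin t → GL (Fin k) F} (h : ∀ i, gs i ∈ U σ₁) : tensGL gs ∈ U (powS σ₁ t) := by
  rw [mem_U_iff]
  show adj (powS σ₁ t) (tens fun i => (gs i : Matrix (Fin k) (Fin k) F)) * tens (fun i => (gs i : Matrix (Fin k) (Fin k) F)) = 1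
  rw [adj_tens, tens_mul, ← tens_one]
  congr 1
  exact funext fun i => (mem_U_iff σ₁).mp (h i)

theorem slotU_mem_U {g : GL (Fin k) F} (hg : g ∈ U σ₁) (i : Fin t) : slotU i g ∈ U (powS σ₁ t) := by
  refine tensGL_mem_U σ₁ fun j => ?_
  rcases eq_or_ne j i with rfl | hj
  · rw [Function.update_self]; exact hg
  · rw [Function.update_of_ne hj]; exact one_mem _

/-- The group generated by the isometries of the slots and the permutations of the slots. -/
def Ws (t : ℕ) : Subgroup (GL (Fin t → Fin k) F) :=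
  Subgroup.closure ({g | ∃ i A, A ∈ U σ₁ ∧ g = slotU i A} ∪ {g | ∃ σ, g = factorPerm σ})

theorem slotU_mem_Ws {A : GL (Fin k) F} (hA : A ∈ U σ₁) (i : Fin t) : slotU i A ∈ Ws σ₁ t :=
  Subgroup.subset_closure (Or.inl ⟨i, A, hA, rfl⟩)

theorem factorPerm_mem_Ws (σ : Equiv.Perm (Fin t)) : factorPerm σ ∈ Ws σ₁ t :=
  Subgroup.subset_closure (Or.inr ⟨σ, rfl⟩)

theorem slotU_one' (i : Fin t) : slotU i (1 : GL (Fin k) F) = 1 := by
  rw [slotU, Function.update_eq_self_iff.mpr (by rfl), tensGL_one]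

theorem tensGL_mem_Ws {gs : Fin t → GL (Fin k) F} (h : ∀ i, gs i ∈ U σ₁) : tensGL gs ∈ Ws σ₁ t := by
  classical
  have key : ∀ T : Finset (Fin t), tensGL (fun i => if i ∈ T then gs i else 1) ∈ Ws σ₁ t := by
    intro T
    induction T using Finset.induction with
    | empty =>
      rw [show (fun i => if i ∈ (∅ : Finset (Fin t)) then gs i else 1) = 1 from funext fun i => by simp, tensGL_one]
      exact one_mem _
    | insert l T hl ih =>
      have e : tensGL (fun i => if i ∈ insert l T then gs i else 1) =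
          slotU l (gs l) * tensGL (fun i => if i ∈ T then gs i else 1) := by
        rw [slotU, tensGL_mul]
        congr 1
        funext i
        rcases eq_or_ne i l with rfl | hi
        · simp [hl]
        · simp [hi]
      rw [e]
      exact mul_mem (slotU_mem_Ws σ₁ (h l) l) ih
  simpa using key Finset.univ

theorem Ws_le_wreath : Ws σ₁ t ≤ Geo.tensorWreathStandard k t F :=
  (Subgroup.closure_le _).mpr fun g hg => by
    rcases hg with ⟨i, A, -, rfl⟩ | ⟨σ, rfl⟩
    · exact slotU_mem i A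
    · exact factorPerm_mem σ

theorem Ws_le_U : Ws σ₁ t ≤ U (powS σ₁ t) :=
  (Subgroup.closure_le _).mpr fun g hg => by
    rcases hg with ⟨i, A, hA, rfl⟩ | ⟨σ, rfl⟩
    · exact slotU_mem_U σ₁ hA i
    · exact factorPerm_mem_U σ₁ σ

/-- The isometries of the slots and the permutations of the slots lie in `H`. -/
def ContainsS (H : Subgroup (GL (Fin t → Fin k) F)) : Prop :=
  (∀ i A, A ∈ U σ₁ → slotU i A ∈ H) ∧ ∀ σ, factorPerm σ ∈ H

theorem ContainsS.le {H : Subgroup (GL (Fin t → Fin k) F)} (hM : ContainsS σ₁ H) : Ws σ₁ t ≤ H :=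
  (Subgroup.closure_le _).mpr fun g hg => by
    rcases hg with ⟨i, A, hA, rfl⟩ | ⟨σ, rfl⟩
    · exact hM.1 i A hA
    · exact hM.2 σ

theorem containsS_of_le {H : Subgroup (GL (Fin t → Fin k) F)} (h : Ws σ₁ t ≤ H) : ContainsS σ₁ H :=
  ⟨fun i _ hA => h (slotU_mem_Ws σ₁ hA i), fun σ => h (factorPerm_mem_Ws σ₁ σ)⟩

theorem kzU_mem_U {A : GL (Fin k) F} (hA : A ∈ U σ₁) {B : GL (Fin t → Fin k) F} (hB : B ∈ U (powS σ₁ t)) :
    kzU A B ∈ U (powS σ₁ (t + 1)) := by
  rw [mem_U_iff, kzU_coe, adj_kz, kz_mul, (mem_U_iff σ₁).mp hA, (mem_U_iff _).mp hB, kz_one]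

end Cfsg.Agent.WreathS
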