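import Cfsg.Agent.WreathS.Slot

/-!
The centre of the radical of a line of the first slot: sandwiches with root elements make a non-scalar element
pure (helper56).
-/

set_option autoImplicit false
set_option linter.unusedSectionVars false

namespace Cfsg.Agent.WreathS

open Matrix Cfsg.Agent.MaxSub Cfsg.Agent.MaxSub.Asch Cfsg.Agent.FG75.SpinTensor Cfsg.Agent.WreathMax

variable {F : Type*} [Field F] {k t : ℕ} {π : Sgn F (Fin k)}

/-- `1 + rk x x ⊗ Z` lies in `H` for every `x`. -/
def InC (π : Sgn F (Fin k)) (H : Subgroup (GL (Fin (t + 1) → Fin k) F))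
    (Z : Matrix (Fin t → Fin k) (Fin t → Fin k) F) : Prop :=
  ∀ x, ∃ g ∈ H, g.val = 1 + kz (rk π x x) Z

variable {H : Subgroup (GL (Fin (t + 1) → Fin k) F)}

theorem kzU_one_slotU (i : Fin t) (A : GL (Fin k) F) :
    kzU (1 : GL (Fin k) F) (slotU i A) = slotU i.succ A :=
  Units.ext (by rw [kzU_coe, slotU_coe, slotU_coe, Units.val_one, slot_succ_eq_kz])

theorem kzU_slot_zero (A : GL (Fin k) F) : kzU A (1 : GL (Fin t → Fin k) F) = slotU 0 A :=
  Units.ext (by rw [kzU_coe, slotU_coe, Units.val_one, slot_zero_eq_kz])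

theorem kzU_one_perm (τ : Equiv.Perm (Fin t)) :
    kzU (1 : GL (Fin k) F) (factorPerm τ) = factorPerm (Equiv.Perm.decomposeFin.symm ((0 : Fin (t + 1)), τ)) := by
  refine Units.ext ?_
  ext x y
  rw [kzU_coe, kz_apply, ← one_mul (factorPerm τ), ← one_mul (factorPerm (Equiv.Perm.decomposeFin.symm _)),
    ← tensGL_one, ← tensGL_one, wreath_apply, wreath_apply, Fin.prod_univ_succ]
  have h0 : (Equiv.Perm.decomposeFin.symm ((0 : Fin (t + 1)), τ)).symm 0 = 0 := by
    rw [Equiv.symm_apply_eq, Equiv.Perm.decomposeFin_symm_apply_zero]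
  have hs : ∀ i, (Equiv.Perm.decomposeFin.symm ((0 : Fin (t + 1)), τ)).symm i.succ = (τ.symm i).succ := fun i => by
    rw [Equiv.symm_apply_eq, Equiv.Perm.decomposeFin_symm_apply_succ]; simp
  simp only [h0, hs]
  rfl

theorem kzU_one_mem_Ws {B : GL (Fin t → Fin k) F} (hB : B ∈ Ws π t) :
    kzU (1 : GL (Fin k) F) B ∈ Ws π (t + 1) := by
  let φ : GL (Fin t → Fin k) F →* GL (Fin (t + 1) → Fin k) F :=
    MonoidHom.mk' (fun B => kzU 1 B) fun B C => by rw [kzU_mul, one_mul]
  suffices Ws π t ≤ (Ws π (t + 1)).comap φ from this hB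
  refine (Subgroup.closure_le _).mpr fun g hg => ?_
  rcases hg with ⟨i, A, hA, rfl⟩ | ⟨σ, rfl⟩
  · show kzU (1 : GL (Fin k) F) (slotU i A) ∈ Ws π (t + 1)
    rw [kzU_one_slotU]; exact slotU_mem_Ws π hA _
  · show kzU (1 : GL (Fin k) F) (factorPerm σ) ∈ Ws π (t + 1)
    rw [kzU_one_perm]; exact factorPerm_mem_Ws π _

theorem kzU_mem_H [Finite F] (hM : ContainsS π H) {A : GL (Fin k) F} (hA : A ∈ U π)
    {B : GL (Fin t → Fin k) F} (hB : B ∈ Ws π t) : kzU A B ∈ H := by
  rw [← mul_one A, ← one_mul B, ← kzU_mul, kzU_slot_zero]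
  exact mul_mem (hM.1 _ _ hA) (ContainsS.le π hM (kzU_one_mem_Ws hB))

theorem conj_kzU (A : GL (Fin k) F) (B : GL (Fin t → Fin k) F) (Q : Matrix (Fin k) (Fin k) F)
    (Z : Matrix (Fin t → Fin k) (Fin t → Fin k) F) :
    (kzU A B).val * (1 + kz Q Z) * ((kzU A B)⁻¹).val = 1 + kz (A.val * Q * (A⁻¹).val) (conjHom B Z) := by
  rw [conj_one_add]
  congr 1
  show kz _ _ * kz Q Z * kz _ _ = _
  rw [kz_mul, kz_mul, conjHom_apply]

theorem InC.of_one [Finite F] (hπ : π.Alt) (hM : ContainsS π H) {x : Fin k → F} (hx : x ≠ 0)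
    {Z : Matrix (Fin t → Fin k) (Fin t → Fin k) F} (h : ∃ g ∈ H, g.val = 1 + kz (rk π x x) Z) :
    InC π H Z := by
  intro y
  by_cases hy : y = 0
  · exact ⟨1, one_mem H, by rw [hy, rk_zero_left, kz_zero_left, add_zero, Units.val_one]⟩
  obtain ⟨g, hg, e⟩ := h
  obtain ⟨A, hA, hAx⟩ := exists_map hπ hx hy
  have hw := kzU_mem_H hM hA (one_mem (Ws π t))
  refine ⟨kzU A 1 * g * (kzU A 1)⁻¹, mul_mem (mul_mem hw hg) (inv_mem hw), ?_⟩
  rw [Units.val_mul, Units.val_mul, e, conj_kzU, conj_rk π hA, hAx]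
  simp [conjHom_apply]

theorem InC.add (hπ : π.Alt) {Z Z' : Matrix (Fin t → Fin k) (Fin t → Fin k) F} (h : InC π H Z) (h' : InC π H Z') :
    InC π H (Z + Z') := by
  intro x
  obtain ⟨g, hg, e⟩ := h x
  obtain ⟨g', hg', e'⟩ := h' x
  refine ⟨g * g', mul_mem hg hg', ?_⟩
  rw [Units.val_mul, e, e']
  simp only [mul_add, add_mul, one_mul, mul_one, kz_mul, hπ.rk_sq, kz_zero_left, add_zero, kz_add_right]
  abel

theorem InC.zero : InC π H (0 : Matrix (Fin t → Fin k) (Fin t → Fin k) F) := fun x =>
  ⟨1, one_mem H, by rw [kz_zero_right, add_zero, Units.val_one]⟩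

theorem InC.neg (hπ : π.Alt) {Z : Matrix (Fin t → Fin k) (Fin t → Fin k) F} (h : InC π H Z) : InC π H (-Z) := by
  intro x
  obtain ⟨g, hg, e⟩ := h x
  refine ⟨g⁻¹, inv_mem hg, left_inv_eq_right_inv (Units.inv_mul g) ?_⟩
  rw [e]
  simp only [mul_add, add_mul, one_mul, mul_one, kz_mul, hπ.rk_sq, kz_zero_left, kz_neg_right, add_zero,
    add_neg_cancel_right, mul_neg]

theorem InC.sub (hπ : π.Alt) {Z Z' : Matrix (Fin t → Fin k) (Fin t → Fin k) F} (h : InC π H Z) (h' : InC π H Z') :
    InC π H (Z - Z') := by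
  rw [sub_eq_add_neg]; exact h.add hπ (h'.neg hπ)

theorem InC.smul (hπ : π.Alt) {Z : Matrix (Fin t → Fin k) (Fin t → Fin k) F} (h : InC π H Z) (r : F) :
    InC π H (r • Z) := by
  have hsq : ∀ a : F, InC π H ((a * a) • Z) := fun a x => by
    obtain ⟨g, hg, e⟩ := h (a • x)
    refine ⟨g, hg, ?_⟩
    rw [e, rk_smul_left, rk_smul_right, smul_smul, kz_smul_left, kz_smul_right]
  have h2 := hπ.two
  have e : r = (r + 1) / 2 * ((r + 1) / 2) - (r - 1) / 2 * ((r - 1) / 2) := by
    field_simp
    ring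
  rw [e, sub_smul]
  exact (hsq _).sub hπ (hsq _)

theorem InC.conj [Finite F] (hM : ContainsS π H) {B : GL (Fin t → Fin k) F} (hB : B ∈ Ws π t)
    {Z : Matrix (Fin t → Fin k) (Fin t → Fin k) F}
    (h : InC π H Z) : InC π H (conjHom B Z) := by
  intro x
  obtain ⟨g, hg, e⟩ := h x
  have hw := kzU_mem_H hM (one_mem (U π)) hB
  refine ⟨kzU 1 B * g * (kzU 1 B)⁻¹, mul_mem (mul_mem hw hg) (inv_mem hw), ?_⟩
  rw [Units.val_mul, Units.val_mul, e, conj_kzU]
  simp

/-- A set of matrices closed under sums, multiples and the stabiliser. -/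
structure Stable (π : Sgn F (Fin k)) (C : Set (Matrix (Fin t → Fin k) (Fin t → Fin k) F)) : Prop where
  add : ∀ {Z Z'}, Z ∈ C → Z' ∈ C → Z + Z' ∈ C
  smul : ∀ (r : F) {Z}, Z ∈ C → r • Z ∈ C
  conj : ∀ {B : GL (Fin t → Fin k) F}, B ∈ Ws π t →
    ∀ {Z}, Z ∈ C → conjHom B Z ∈ C

theorem Stable.neg {C : Set (Matrix (Fin t → Fin k) (Fin t → Fin k) F)} (hC : Stable π C)
    {Z : Matrix (Fin t → Fin k) (Fin t → Fin k) F} (h : Z ∈ C) : -Z ∈ C := by
  rw [← neg_one_smul F Z]; exact hC.smul _ h

theorem Stable.sub {C : Set (Matrix (Fin t → Fin k) (Fin t → Fin k) F)} (hC : Stable π C)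
    {Z Z' : Matrix (Fin t → Fin k) (Fin t → Fin k) F} (h : Z ∈ C) (h' : Z' ∈ C) : Z - Z' ∈ C := by
  rw [sub_eq_add_neg]; exact hC.add h (hC.neg h')

theorem InC.stable [Finite F] (hπ : π.Alt) (hM : ContainsS π H) :
    Stable π {Z | InC π H Z} where
  add h h' := InC.add hπ h h'
  smul r _ h := InC.smul hπ h r
  conj hB _ h := InC.conj hM hB h

/-! ### Contraction of one slot -/

/-- The vector with covector a unit vector. -/
def dual (π : Sgn F (Fin k)) (b : Fin k) : Fin k → F := Pi.single (π.J b) (π.ε b)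

theorem cv_dual (b : Fin k) : cv π (dual π b) = Pi.single b 1 := by
  funext a
  rcases eq_or_ne a b with rfl | h
  · simp [cv, dual, π.ε_sq]
  · simp [cv, dual, h, π.J.injective.ne h]

theorem single_eq_rk (a b : Fin k) : Matrix.single a b (1 : F) = rk π (Pi.single a 1) (dual π b) := by
  rw [rk, cv_dual]
  ext c d
  simp [vecMulVec_apply, Matrix.single_apply, Pi.single_apply, ite_and, eq_comm]
  split_ifs <;> rfl

theorem bf_single_dual (a b : Fin k) : bf π (Pi.single a 1) (dual π b) = if b = a then 1 else 0 := by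
  rw [bf, cv_dual, single_dotProduct, Pi.single_apply, one_mul]

theorem sum_dual (q : Fin k → F) : q = ∑ a, bf π (Pi.single a 1) q • dual π a := by
  funext b
  rw [Finset.sum_apply, Finset.sum_eq_single (π.J b)]
  · rw [Pi.smul_apply, bf_single, dual, π.inv, Pi.single_eq_same, smul_eq_mul]
    linear_combination -(q b) * π.ε_sq (π.J b)
  · intro a _ ha
    rw [Pi.smul_apply, dual, Pi.single_eq_of_ne (fun h => ha (by rw [h, π.inv])), smul_zero]
  · simp

theorem one_eq_sum_rk : (1 : Matrix (Fin k) (Fin k) F) = ∑ c, rk π (Pi.single c 1) (dual π c) := by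
  simp only [← single_eq_rk]
  exact (Matrix.sum_single_one (α := F)).symm

/-- The contraction of one slot between two vectors. -/
noncomputable def contr (π : Sgn F (Fin k)) (l : Fin t) (x y : Fin k → F)
    (Z : Matrix (Fin t → Fin k) (Fin t → Fin k) F) : Matrix (Fin t → Fin k) (Fin t → Fin k) F :=
  ∑ a, slot l (rk π (Pi.single a 1) x) * Z * slot l (rk π y (dual π a))

theorem sandwich (l : Fin t) (p q x y : Fin k → F) (Z : Matrix (Fin t → Fin k) (Fin t → Fin k) F) :
    slot l (rk π p x) * Z * slot l (rk π y q) = slot l (rk π p q) * contr π l x y Z := by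
  rw [contr, Finset.mul_sum]
  simp only [← mul_assoc, ← slot_mul', rk_mul, slot_smul', smul_mul_assoc]
  have e : slot l (rk π y q) = ∑ a, bf π (Pi.single a 1) q • slot l (rk π y (dual π a)) := by
    conv_lhs => rw [sum_dual (π := π) q]
    let φ : (Fin k → F) →+ Matrix (Fin t → Fin k) (Fin t → Fin k) F :=
      AddMonoidHom.mk' (fun v => slot l (rk π y v)) fun u v => by rw [rk_add_right, slot_add']
    show φ _ = _
    rw [map_sum]
    refine Finset.sum_congr rfl fun a _ => ?_
    show slot l (rk π y _) = _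
    rw [rk_smul_right, slot_smul']
  rw [e, Finset.mul_sum]
  exact Finset.sum_congr rfl fun a _ => mul_smul_comm _ _ _

theorem contr_comm (l : Fin t) (x y : Fin k → F) (Z : Matrix (Fin t → Fin k) (Fin t → Fin k) F)
    (A : Matrix (Fin k) (Fin k) F) : Commute (slot l A) (contr π l x y Z) := by
  let S : Submodule F (Matrix (Fin k) (Fin k) F) :=
    { carrier := {A | Commute (slot l A) (contr π l x y Z)}
      zero_mem' := by show Commute _ _; rw [slot_zero']; exact Commute.zero_left _
      add_mem' := fun {A B} (hA : Commute _ _) (hB : Commute _ _) => by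
        show Commute _ _; rw [slot_add']; exact hA.add_left hB
      smul_mem' := fun c A (hA : Commute _ _) => by
        show Commute _ _; rw [slot_smul']; exact hA.smul_left c }
  suffices A ∈ S from this
  rw [Matrix.matrix_eq_sum_single A]
  refine Submodule.sum_mem _ fun c _ => Submodule.sum_mem _ fun d _ => ?_
  rw [show Matrix.single c d (A c d) = A c d • Matrix.single c d (1 : F) by simp [Matrix.smul_single]]
  refine S.smul_mem _ ?_
  show _ * _ = _ * _
  rw [single_eq_rk (π := π), contr, Finset.mul_sum, Finset.sum_mul]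
  simp only [← mul_assoc, ← slot_mul', rk_mul, slot_smul', smul_mul_assoc]
  rw [Finset.sum_eq_single d, Finset.sum_eq_single c]
  · simp only [mul_assoc, ← slot_mul', rk_mul, slot_smul', mul_smul_comm, bf_single_dual, if_true, one_smul]
  · intro a _ ha
    simp only [mul_assoc, ← slot_mul', rk_mul, bf_single_dual, if_neg ha, zero_smul, slot_zero', mul_zero]
  · simp
  · intro a _ ha
    rw [bf_single_dual, if_neg (Ne.symm ha), zero_smul]
  · simp

theorem contr_add_left (l : Fin t) (x x' y : Fin k → F) (Z : Matrix (Fin t → Fin k) (Fin t → Fin k) F) :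
    contr π l (x + x') y Z = contr π l x y Z + contr π l x' y Z := by
  simp only [contr, rk_add_right, slot_add', add_mul, Finset.sum_add_distrib]

theorem contr_add_right (l : Fin t) (x y y' : Fin k → F) (Z : Matrix (Fin t → Fin k) (Fin t → Fin k) F) :
    contr π l x (y + y') Z = contr π l x y Z + contr π l x y' Z := by
  simp only [contr, rk_add_left, slot_add', mul_add, Finset.sum_add_distrib]

theorem contr_smul_right (l : Fin t) (c : F) (x y : Fin k → F) (Z : Matrix (Fin t → Fin k) (Fin t → Fin k) F) :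
    contr π l x (c • y) Z = c • contr π l x y Z := by
  simp only [contr, rk_smul_left, slot_smul', mul_smul_comm, Finset.smul_sum]

theorem contr_zero_left (l : Fin t) (y : Fin k → F) (Z : Matrix (Fin t → Fin k) (Fin t → Fin k) F) :
    contr π l 0 y Z = 0 := by
  simp only [contr, rk_zero_right, slot_zero', zero_mul, Finset.sum_const_zero]

/-- A slot times a matrix commuting with the slot vanishes only trivially. -/
theorem eq_zero_of_slot_mul (l : Fin t) {A : Matrix (Fin k) (Fin k) F} (hA : A ≠ 0)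
    {X : Matrix (Fin t → Fin k) (Fin t → Fin k) F} (hX : ∀ B, Commute (slot l B) X) (h : slot l A * X = 0) :
    X = 0 := by
  obtain ⟨u, v, huv⟩ : ∃ u v, A u v ≠ 0 := by
    by_contra hc
    push Not at hc
    exact hA (Matrix.ext hc)
  rw [← one_mul X, ← slot_one' l, ← Matrix.sum_single_one (α := F) (m := Fin k), slot_sum', Finset.sum_mul]
  refine Finset.sum_eq_zero fun c _ => ?_
  have e : Matrix.single c c (1 : F) = (A u v)⁻¹ • (Matrix.single c u 1 * A * Matrix.single v c 1) := by
    rw [Matrix.single_mul_mul_single, Matrix.smul_single]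
    simp [huv]
  rw [e, slot_smul', smul_mul_assoc, slot_mul', slot_mul', mul_assoc, (hX _).eq, ← mul_assoc,
    mul_assoc (slot l (Matrix.single c u 1)), h, mul_zero, zero_mul, smul_zero]

/-- A matrix killed by all sandwiches of orthogonal vectors commutes with the slot. -/
theorem commute_of_sandwich (l : Fin t) {Z : Matrix (Fin t → Fin k) (Fin t → Fin k) F}
    (h : ∀ x y, bf π y x = 0 → ∀ p q, slot l (rk π p x) * Z * slot l (rk π y q) = 0)
    (A : Matrix (Fin k) (Fin k) F) : Commute (slot l A) Z := by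
  classical
  have hd : ∀ a b, bf π (Pi.single a 1) (dual π b) = if b = a then 1 else 0 := bf_single_dual
  have hoff : ∀ u v a b, a ≠ b → slot l (Matrix.single u b 1) * Z * slot l (Matrix.single a v (1 : F)) = 0 := by
    intro u v a b hab
    rw [single_eq_rk (π := π), single_eq_rk (π := π)]
    exact h _ _ (by rw [hd, if_neg (Ne.symm hab)]) _ _
  have hdiag : ∀ u v a b, slot l (Matrix.single u a 1) * Z * slot l (Matrix.single a v (1 : F)) =
      slot l (Matrix.single u b 1) * Z * slot l (Matrix.single b v 1) := by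
    intro u v a b
    rcases eq_or_ne a b with rfl | hab
    · rfl
    have h1 := h (dual π a - dual π b) (Pi.single a 1 + Pi.single b 1)
      (by rw [bf_sub_right, bf_add_left, bf_add_left, hd, hd, hd, hd]; simp [hab, hab.symm])
      (Pi.single u 1) (dual π v)
    rw [rk_add_left, slot_add', show rk π (Pi.single u 1) (dual π a - dual π b) =
        Matrix.single u a (1 : F) - Matrix.single u b 1 by
      rw [single_eq_rk (π := π), single_eq_rk (π := π), eq_sub_iff_add_eq, ← rk_add_right, sub_add_cancel],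
      slot_sub', ← single_eq_rk, ← single_eq_rk] at h1
    simp only [sub_mul, mul_add, hoff u v a b hab, hoff u v b a hab.symm, add_zero, zero_add, sub_zero, zero_sub] at h1
    linear_combination (norm := module) h1
  let R : Submodule F (Matrix (Fin k) (Fin k) F) :=
    { carrier := {A | Commute (slot l A) Z}
      zero_mem' := by show Commute _ _; rw [slot_zero']; exact Commute.zero_left _
      add_mem' := fun {A B} (hA : Commute _ _) (hB : Commute _ _) => by
        show Commute _ _; rw [slot_add']; exact hA.add_left hB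
      smul_mem' := fun c A (hA : Commute _ _) => by
        show Commute _ _; rw [slot_smul']; exact hA.smul_left c }
  suffices A ∈ R from this
  rw [Matrix.matrix_eq_sum_single A]
  refine Submodule.sum_mem _ fun c _ => Submodule.sum_mem _ fun d _ => ?_
  rw [show Matrix.single c d (A c d) = A c d • Matrix.single c d (1 : F) by simp [Matrix.smul_single]]
  refine R.smul_mem _ ?_
  have one : (1 : Matrix (Fin t → Fin k) (Fin t → Fin k) F) = ∑ a, slot l (Matrix.single a a 1) := by
    rw [← slot_sum', Matrix.sum_single_one, slot_one']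
  have hl : slot l (Matrix.single c d (1 : F)) * Z = slot l (Matrix.single c d 1) * Z * slot l (Matrix.single d d 1) := by
    conv_lhs => rw [← mul_one (slot l (Matrix.single c d (1 : F)) * Z), one, Finset.mul_sum]
    exact Finset.sum_eq_single d (fun a _ ha => hoff c a a d ha) (by simp)
  have hr : Z * slot l (Matrix.single c d (1 : F)) = slot l (Matrix.single c c 1) * Z * slot l (Matrix.single c d 1) := by
    conv_lhs => rw [← one_mul (Z * slot l (Matrix.single c d (1 : F))), one, Finset.sum_mul]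
    simp only [← mul_assoc]
    exact Finset.sum_eq_single c (fun a _ ha => hoff a d c a ha.symm) (by simp)
  show _ * _ = _ * _
  rw [hl, hr, hdiag c d d c]

/-! ### Pure elements -/

/-- One slot of an element of a stable set is made pure. -/
theorem Stable.slot_step [Finite F] (hπ : π.Alt) {S : Set (Matrix (Fin t → Fin k) (Fin t → Fin k) F)}
    (hS : Stable π S) (l : Fin t)
    {G Z : Matrix (Fin t → Fin k) (Fin t → Fin k) F} (hG : ∀ A, Commute (slot l A) G)
    (hZ : ¬ ∀ A, Commute (slot l A) Z) (h : G * Z ∈ S) :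
    ∃ P C, Piece π P ∧ C ≠ 0 ∧ (∀ A, Commute (slot l A) C) ∧
      (∀ j, j ≠ l → (∀ A, Commute (slot j A) Z) → ∀ A, Commute (slot j A) C) ∧
      G * (slot l P * C) ∈ S := by
  classical
  have hcomm : ∀ x y, ∀ j, j ≠ l → (∀ A, Commute (slot j A) Z) → ∀ A, Commute (slot j A) (contr π l x y Z) := by
    intro x y j hj hjZ A
    refine Commute.sum_right _ _ _ fun a _ => ?_
    have hc : ∀ B, Commute (slot j A) (slot l B) := fun B => slot_comm hj A B
    exact ((hc _).mul_right (hjZ A)).mul_right (hc _)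
  have hconj : ∀ (v : Fin k → F) (c : F) (X : Matrix (Fin t → Fin k) (Fin t → Fin k) F), G * X ∈ S →
      G * (X + c • (slot l (rk π v v) * X - X * slot l (rk π v v)) -
        (c * c) • (slot l (rk π v v) * X * slot l (rk π v v))) ∈ S := by
    intro v c X hX
    have h1 := hS.conj (sRoot_mem_Ws hπ l v c) hX
    have hi : ((sRoot π l v c)⁻¹ : GL (Fin t → Fin k) F).val = 1 + (-c) • slot l (rk π v v) :=
      left_inv_eq_right_inv (Units.inv_mul _) (by
        rw [sRoot_coe hπ]
        simp only [mul_add, add_mul, one_mul, mul_one, smul_mul_smul_comm, ← slot_mul', hπ.rk_sq, slot_zero',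
          smul_zero, add_zero]
        module)
    convert h1 using 1
    have hfix : conjHom (sRoot π l v c) G = G := by
      rw [conjHom_apply, sRoot_coe hπ, hi, add_mul, one_mul, smul_mul_assoc, (hG _).eq]
      simp only [add_mul, mul_add, one_mul, mul_one, smul_mul_assoc, mul_smul_comm, mul_assoc, ← slot_mul',
        hπ.rk_sq, slot_zero', mul_zero, smul_zero, add_zero]
      module
    rw [map_mul, hfix, conjHom_apply, sRoot_coe hπ, hi]
    simp only [add_mul, mul_add, one_mul, mul_one, smul_mul_assoc, mul_smul_comm, mul_sub, smul_add, smul_smul]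
    module
  have hNN : ∀ (v : Fin k → F) (X : Matrix (Fin t → Fin k) (Fin t → Fin k) F), G * X ∈ S → G * (slot l (rk π v v) * X * slot l (rk π v v)) ∈ S := by
    intro v X hX
    have h1 := hS.smul (-(2 : F)⁻¹) (hS.sub (hS.add (hconj v 1 X hX) (hconj v (-1) X hX)) (hS.smul 2 hX))
    convert h1 using 1
    simp only [mul_sub, mul_add, mul_smul_comm, smul_sub, smul_add, smul_smul]
    have h2 : -(2 : F)⁻¹ * 2 = -1 := by rw [neg_mul, inv_mul_cancel₀ hπ.two]
    simp only [mul_one, one_mul, neg_mul, mul_neg, inv_mul_cancel₀ hπ.two, neg_neg]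
    match_scalars <;> field_simp [hπ.two] <;> ring
  have hD : ∀ (v : Fin k → F) (X : Matrix (Fin t → Fin k) (Fin t → Fin k) F), G * X ∈ S → G * (slot l (rk π v v) * X - X * slot l (rk π v v)) ∈ S := by
    intro v X hX
    have h1 := hS.smul (2 : F)⁻¹ (hS.sub (hconj v 1 X hX) (hconj v (-1) X hX))
    convert h1 using 1
    simp only [mul_sub, mul_add, mul_smul_comm, smul_sub, smul_add, smul_smul]
    match_scalars <;> field_simp [hπ.two] <;> ring
  by_cases hdiag : ∃ x, contr π l x x Z ≠ 0
  · obtain ⟨x, hx⟩ := hdiag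
    have hx0 : x ≠ 0 := fun e => hx (by rw [e, contr_zero_left])
    refine ⟨rk π x x, contr π l x x Z, Or.inl ⟨x, hx0, rfl⟩, hx, contr_comm l x x Z, hcomm x x, ?_⟩
    have := hNN x Z h
    rwa [sandwich] at this
  push Not at hdiag
  obtain ⟨x, y, hyx, hne⟩ : ∃ x y, bf π y x = 0 ∧ contr π l x y Z ≠ 0 := by
    by_contra hc
    push Not at hc
    exact hZ (commute_of_sandwich l fun x y hyx p q => by rw [sandwich, hc x y hyx, mul_zero])
  have hy0 : y ≠ 0 := fun e => hne (by
    rw [e, ← zero_smul F (0 : Fin k → F), contr_smul_right, zero_smul])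
  have hind : ∀ c : F, x ≠ c • y := fun c e => by
    by_cases hc0 : c = 0
    · exact hne (by rw [e, hc0, zero_smul, contr_zero_left])
    · refine hne ?_
      rw [show y = c⁻¹ • x by rw [e, inv_smul_smul₀ hc0], contr_smul_right, hdiag, smul_zero]
  have hanti : contr π l y x Z = -contr π l x y Z := by
    have h1 := hdiag (x + y)
    rw [contr_add_left, contr_add_right, contr_add_right, hdiag, hdiag, zero_add, add_zero] at h1
    exact eq_neg_of_add_eq_zero_right h1
  refine ⟨rk π x y - rk π y x, contr π l x y Z, Or.inr ⟨y, x, hy0, hind, hyx, rfl⟩, hne, contr_comm l x y Z,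
    hcomm x y, ?_⟩
  have h1 := hS.neg (hD x _ (hD y Z h))
  have hxy : bf π x y = 0 := bf_eq_zero_comm π hyx
  have e1 : slot l (rk π x x) * slot l (rk π y y) = 0 := by
    rw [← slot_mul', rk_mul, hyx, zero_smul, slot_zero']
  have e2 : slot l (rk π y y) * slot l (rk π x x) = 0 := by
    rw [← slot_mul', rk_mul, hxy, zero_smul, slot_zero']
  convert h1 using 1
  rw [← mul_neg]
  congr 1
  rw [slot_sub', sub_mul, ← sandwich, show slot l (rk π y x) * contr π l x y Z =
      -(slot l (rk π y x) * contr π l y x Z) by rw [hanti, mul_neg, neg_neg], ← sandwich, sub_neg_eq_add]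
  simp only [mul_sub, sub_mul, ← mul_assoc, e1, zero_mul]
  simp only [mul_assoc, e2, mul_zero]
  abel

/-- An element `1 + a • tens P` with pure pieces. -/
def IsPure (π : Sgn F (Fin k)) (H : Subgroup (GL (Fin t → Fin k) F))
    (P : Fin t → Matrix (Fin k) (Fin k) F) : Prop :=
  (∀ l, P l = 1 ∨ Piece π (P l)) ∧ ∃ a : F, a ≠ 0 ∧ ∃ g ∈ H, g.val = 1 + a • tens P

/-- A non-scalar element of a stable set gives a pure one. -/
theorem Stable.exists_pure [Finite F] (hπ : π.Alt) {S : Set (Matrix (Fin t → Fin k) (Fin t → Fin k) F)}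
    (hS : Stable π S) {Z : Matrix (Fin t → Fin k) (Fin t → Fin k) F} (h : Z ∈ S) (hZ : ∀ c : F, Z ≠ c • 1) :
    ∃ P : Fin t → Matrix (Fin k) (Fin k) F, (∀ l, P l = 1 ∨ Piece π (P l)) ∧ (∃ l, Piece π (P l)) ∧
      tens P ∈ S := by
  classical
  have key : ∀ T : Finset (Fin t), ∃ P : Fin t → Matrix (Fin k) (Fin k) F, (∀ l, l ∉ T → P l = 1) ∧
      (∀ l, P l = 1 ∨ Piece π (P l)) ∧ ∃ Z', Z' ≠ 0 ∧ ((∀ l, P l = 1) → Z' = Z) ∧
      (∀ l ∈ T, ∀ A, Commute (slot l A) Z') ∧ tens P * Z' ∈ S := by
    intro T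
    induction T using Finset.induction with
    | empty =>
      refine ⟨1, fun _ _ => rfl, fun _ => Or.inl rfl, Z, fun h0 => hZ 0 (by rw [h0, zero_smul]), fun _ => rfl,
        by simp, ?_⟩
      rw [tens_one, one_mul]
      exact h
    | insert l T hl ih =>
      obtain ⟨P, hP1, hP, Z', hZ', hT0, hcomm, hin⟩ := ih
      by_cases hc : ∀ A, Commute (slot l A) Z'
      · refine ⟨P, fun j hj => hP1 j fun hh => hj (Finset.mem_insert_of_mem hh), hP, Z', hZ', hT0,
          fun j hj => ?_, hin⟩
        rcases Finset.mem_insert.mp hj with rfl | hj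
        · exact hc
        · exact hcomm j hj
      have hG : ∀ A, Commute (slot l A) (tens P) := fun A => by
        show _ * _ = _ * _
        rw [slot_mul_tens, tens_mul_slot, hP1 l hl, one_mul, mul_one]
      obtain ⟨p, C, hp, hC0, hCl, hCj, hinC⟩ := hS.slot_step hπ l hG hc hin
      refine ⟨Function.update P l p, fun j hj => ?_, fun j => ?_, C, hC0, fun he => ?_, fun j hj => ?_, ?_⟩
      · rw [Function.update_of_ne (fun e : j = l => hj (e ▸ Finset.mem_insert_self _ _))]
        exact hP1 j fun hh => hj (Finset.mem_insert_of_mem hh)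
      · rcases eq_or_ne j l with rfl | hjl
        · rw [Function.update_self]; exact Or.inr hp
        · rw [Function.update_of_ne hjl]; exact hP j
      · have := he l
        rw [Function.update_self] at this
        exact absurd this (hp.ne_one hπ)
      · rcases Finset.mem_insert.mp hj with rfl | hj
        · exact hCl
        · exact hCj j (fun e => hl (e ▸ hj)) (hcomm j hj)
      · convert hinC using 1
        rw [← mul_assoc, tens_mul_slot, hP1 l hl, one_mul]
  obtain ⟨P, -, hP, Z', hZ', hT0, hcomm, hin⟩ := key Finset.univ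
  obtain ⟨a, ha⟩ := slot_centraliser (T := Z') fun i M => (hcomm i (Finset.mem_univ i) M).symm
  have hT : ∃ l, Piece π (P l) := by
    by_contra hc
    push Not at hc
    exact hZ a (by rw [← hT0 (fun l => (hP l).resolve_right (hc l)), ha])
  have ha0 : a ≠ 0 := fun h0 => hZ' (by rw [ha, h0, zero_smul])
  rw [ha, mul_smul_comm, mul_one] at hin
  have := hS.smul a⁻¹ hin
  rw [smul_smul, inv_mul_cancel₀ ha0, one_smul] at this
  exact ⟨P, hP, hT, this⟩

/-- A non-scalar centre element gives a pure one. -/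
theorem InC.exists_pure [Finite F] (hπ : π.Alt) (hM : ContainsS π H)
    {Z : Matrix (Fin t → Fin k) (Fin t → Fin k) F} (h : InC π H Z) (hZ : ∀ c : F, Z ≠ c • 1) :
    ∃ P : Fin t → Matrix (Fin k) (Fin k) F, (∀ l, P l = 1 ∨ Piece π (P l)) ∧ (∃ l, Piece π (P l)) ∧
      InC π H (tens P) := Stable.exists_pure hπ (InC.stable hπ hM) h hZ

/-- A centre element gives a pure element. -/
theorem InC.isPure {x : Fin k → F}
    (hx : x ≠ 0) {P : Fin t → Matrix (Fin k) (Fin k) F} (hP' : ∀ l, P l = 1 ∨ Piece π (P l))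
    (h : InC π H (tens P)) : IsPure π H (Fin.cons (rk π x x) P) := by
  refine ⟨fun l => ?_, 1, one_ne_zero, ?_⟩
  · refine Fin.cases ?_ (fun l => ?_) l
    · rw [Fin.cons_zero]; exact Or.inr (Or.inl ⟨x, hx, rfl⟩)
    · rw [Fin.cons_succ]; exact hP' l
  · obtain ⟨g, hg, e⟩ := h x
    refine ⟨g, hg, ?_⟩
    rw [one_smul, e, tens_eq_kz]
    simp [Fin.cons_zero, Fin.cons_succ]

end Cfsg.Agent.WreathS
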