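import Cfsg.Agent.WreathS.Centre

/-!
An odd tensor power: one commutator turns a pure element into a longer product of root lines, and all of these
give every transvection (helper56).
-/

set_option autoImplicit false
set_option linter.unusedSectionVars false

namespace Cfsg.Agent.WreathS

open Matrix Cfsg.Agent.MaxSub Cfsg.Agent.MaxSub.Asch Cfsg.Agent.FG75.SpinTensor Cfsg.Agent.WreathMax

variable {F : Type*} [Field F] [Finite F] {k t : ℕ} {π : Sgn F (Fin k)}

/-- A root line. -/
def IsE (π : Sgn F (Fin k)) (P : Matrix (Fin k) (Fin k) F) : Prop := ∃ x, x ≠ 0 ∧ P = rk π x x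

theorem IsE.piece {P : Matrix (Fin k) (Fin k) F} (h : IsE π P) : Piece π P := Or.inl h

theorem IsE.adj (hπ : π.Alt) {P : Matrix (Fin k) (Fin k) F} (h : IsE π P) : WreathS.adj π P = -P := by
  obtain ⟨x, -, rfl⟩ := h
  exact hπ.adj_rk' x x

theorem adj_of_not_isE (hπ : π.Alt) {P : Matrix (Fin k) (Fin k) F} (h : P = 1 ∨ Piece π P) (h' : ¬ IsE π P) :
    adj π P = P := by
  rcases h with rfl | h | ⟨a, b, -, -, -, rfl⟩
  · exact adj_one π
  · exact absurd h h'
  · rw [adj_sub, hπ.adj_rk', hπ.adj_rk']; abel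

/-- The first slot is moved. -/
theorem IsPure.move {H : Subgroup (GL (Fin t → Fin k) F)} (hM : ContainsS π H) {P : Fin t → Matrix (Fin k) (Fin k) F} (h : IsPure π H P)
    (σ : Equiv.Perm (Fin t)) : IsPure π H (P ∘ σ.symm) := by
  obtain ⟨hP, a, ha, g, hg, e⟩ := h
  have hw : factorPerm σ ∈ H := hM.2 σ
  refine ⟨fun l => hP _, a, ha, factorPerm σ * g * (factorPerm σ)⁻¹, mul_mem (mul_mem hw hg) (inv_mem hw), ?_⟩
  rw [Units.val_mul, Units.val_mul, e, conj_one_add, ← conjHom_apply, map_smul,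
    show (factorPerm σ : GL (Fin t → Fin k) F) = tensGL 1 * factorPerm σ by rw [tensGL_one, one_mul],
    conjHom_wreath_tens]
  simp [Function.comp_def]

theorem IsPure.eq_one_or_isE_card (hπ : π.Alt) (hk : 0 < k) (ht : 1 ≤ t) {H : Subgroup (GL (Fin t → Fin k) F)}
    (hH : H ≤ U (powS π t)) {P : Fin t → Matrix (Fin k) (Fin k) F} (h : IsPure π H P) (hne : ∃ l, Piece π (P l))
    [DecidablePred fun l => IsE π (P l)] : Odd (Finset.univ.filter fun l => IsE π (P l)).card := by
  obtain ⟨hP, a, ha, g, hg, e⟩ := h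
  obtain ⟨l, hl⟩ := hne
  set S := Finset.univ.filter fun l => IsE π (P l)
  have hadj : adj (powS π t) (tens P) = (-1 : F) ^ S.card • tens P := by
    rw [adj_tens, show (-1 : F) ^ S.card = ∏ j, (if IsE π (P j) then (-1 : F) else 1) by
      rw [Finset.prod_ite, Finset.prod_const, Finset.prod_const_one, mul_one], ← tens_smul]
    congr 1
    funext j
    by_cases hj : IsE π (P j)
    · rw [if_pos hj, hj.adj hπ, neg_one_smul]
    · rw [if_neg hj, adj_of_not_isE hπ (hP j) hj, one_smul]
  have h1 := (mem_U_iff _).mp (hH hg)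
  rw [e, adj_add, adj_one, adj_smul, hadj] at h1
  simp only [add_mul, mul_add, one_mul, mul_one, smul_mul_assoc, mul_smul_comm, tens_mul] at h1
  have h0 : tens (P * P) = 0 := tens_eq_zero (l := l) (hl.sq hπ)
  rw [h0] at h1
  simp only [smul_zero, add_zero, add_assoc, add_eq_left] at h1
  have hne' : tens P ≠ 0 := tens_ne_zero fun i => by
    haveI : Nonempty (Fin k) := ⟨⟨0, hk⟩⟩
    rcases hP i with h | h
    · rw [h]; exact one_ne_zero
    · exact h.ne_zero hπ
  rcases Nat.even_or_odd S.card with hev | hodd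
  · rw [hev.neg_one_pow, one_smul, ← add_smul, smul_eq_zero] at h1
    exact absurd (mul_left_cancel₀ hπ.two (show (2 : F) * a = 2 * 0 by
      linear_combination h1.resolve_right hne')) ha
  · exact hodd

/-- The partner of a piece. -/
theorem exists_partner (hπ : π.Alt) {P : Matrix (Fin k) (Fin k) F} (h : Piece π P) :
    ∃ g ∈ U π, ∃ (R R' : Matrix (Fin k) (Fin k) F) (v : Fin k → F) (ρ : F),
      P * ((g : Matrix (Fin k) (Fin k) F) * P * ((g⁻¹ : GL (Fin k) F) : Matrix (Fin k) (Fin k) F)) = R ∧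
      ((g : Matrix (Fin k) (Fin k) F) * P * ((g⁻¹ : GL (Fin k) F) : Matrix (Fin k) (Fin k) F)) * P = -R' ∧
      v ≠ 0 ∧ ρ ≠ 0 ∧ rk π v v * R * rk π v v = ρ • rk π v v ∧ rk π v v * R' * rk π v v = ρ • rk π v v ∧
      (¬ IsE π P → IsE π R ∧ R' = R ∧ R * P = 0 ∧
        R' * ((g : Matrix (Fin k) (Fin k) F) * P * ((g⁻¹ : GL (Fin k) F) : Matrix (Fin k) (Fin k) F)) = 0) := by
  rcases h with ⟨x, hx, rfl⟩ | ⟨a, b, ha, hind, hab, rfl⟩
  · obtain ⟨z, hxz⟩ := exists_right_eq_one π hx
    have hzx : bf π z x = -1 := by rw [hπ.skew, hxz]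
    refine ⟨st (bf π) (z - x) 1, st_mem_isom hπ.form _ _, -rk π x z, -rk π z x, x + z, -1, ?_, ?_, ?_, ?_, ?_, ?_,
      fun hn => absurd ⟨x, hx, rfl⟩ hn⟩
    all_goals
      have hgx : (st (bf π) (z - x) 1 : Matrix (Fin k) (Fin k) F) *ᵥ x = z := by
        rw [st_mulVec hπ.form, bf_sub_right, hxz, hπ.self, sub_zero, mul_one, one_smul, add_sub_cancel]
    · rw [conj_rk π (st_mem_isom hπ.form _ _), hgx, rk_mul, hzx, neg_one_smul]
    · rw [conj_rk π (st_mem_isom hπ.form _ _), hgx, rk_mul, hxz, one_smul, neg_neg]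
    · intro e
      have e2 := congrArg (fun u => bf π u z) e
      simp only [bf_add_left, bf_zero_left, hxz, hπ.self, add_zero] at e2
      exact one_ne_zero e2
    · exact neg_ne_zero.mpr one_ne_zero
    · simp only [mul_neg, neg_mul, rk_mul, bf_add_left, bf_add_right, hxz, hzx, hπ.self, smul_smul, smul_mul_assoc,
        add_zero, zero_add, neg_smul, one_smul]
    · simp only [mul_neg, neg_mul, rk_mul, bf_add_left, bf_add_right, hxz, hzx, hπ.self, smul_smul, smul_mul_assoc,
        add_zero, zero_add, neg_smul, one_smul, neg_neg]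
  · obtain ⟨w, hbw, haw⟩ := exists_dual hπ ha hind
    have hba : bf π b a = 0 := bf_eq_zero_comm π hab
    have hwa : bf π w a = 0 := bf_eq_zero_comm π haw
    have hwb : bf π w b = -1 := by rw [hπ.skew, hbw]
    obtain ⟨v, hv⟩ := exists_right_eq_one π ha
    have hva : bf π v a = -1 := by rw [hπ.skew, hv]
    have hgU : st (bf π) (w - b) 1 ∈ U π := st_mem_isom hπ.form _ _
    have hga : (st (bf π) (w - b) 1 : Matrix (Fin k) (Fin k) F) *ᵥ a = a := by
      rw [st_mulVec hπ.form, bf_sub_right, haw, hab, sub_zero, mul_zero, zero_smul, add_zero]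
    have hgb : (st (bf π) (w - b) 1 : Matrix (Fin k) (Fin k) F) *ᵥ b = w := by
      rw [st_mulVec hπ.form, bf_sub_right, hbw, hπ.self, sub_zero, mul_one, one_smul, add_sub_cancel]
    have hQ : (st (bf π) (w - b) 1 : Matrix (Fin k) (Fin k) F) * (rk π b a - rk π a b) *
        ((st (bf π) (w - b) 1)⁻¹ : GL (Fin k) F).val = rk π w a - rk π a w := by
      rw [mul_sub, sub_mul, conj_rk π hgU, conj_rk π hgU, hga, hgb]
    refine ⟨_, hgU, rk π a a, rk π a a, v, -1, ?_, ?_, ?_, neg_ne_zero.mpr one_ne_zero, ?_, ?_,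
      fun _ => ⟨⟨a, ha, rfl⟩, rfl, ?_, ?_⟩⟩
    · rw [hQ]
      simp only [mul_sub, sub_mul, rk_mul, hba, hwb, hwa, hab, hπ.self, zero_smul, neg_smul, one_smul, sub_zero,
        zero_sub, neg_neg]
    · rw [hQ]
      simp only [mul_sub, sub_mul, rk_mul, hab, hbw, haw, hba, hπ.self, zero_smul, one_smul, sub_zero, zero_sub]
    · intro e
      rw [e, bf_zero_left] at hva
      exact one_ne_zero (neg_eq_zero.mp hva.symm)
    · simp only [rk_mul, hv, hva, smul_smul, smul_mul_assoc, neg_mul, one_mul, mul_neg, neg_smul, one_smul]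
    · simp only [rk_mul, hv, hva, smul_smul, smul_mul_assoc, neg_mul, one_mul, mul_neg, neg_smul, one_smul]
    · simp only [mul_sub, rk_mul, hba, hπ.self, zero_smul, sub_zero]
    · rw [hQ]
      simp only [mul_sub, rk_mul, hwa, hπ.self, zero_smul, sub_zero]

/-- Sandwiching one slot of a centre element with a root line. -/
theorem InC.sandwich (hπ : π.Alt) {H : Subgroup (GL (Fin (t + 1) → Fin k) F)} (hM : ContainsS π H) (l : Fin t)
    (v : Fin k → F) {Z : Matrix (Fin t → Fin k) (Fin t → Fin k) F} (h : InC π H Z) :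
    InC π H (slot l (rk π v v) * Z * slot l (rk π v v)) := by
  set N := slot l (rk π v v)
  have hc : ∀ c : F, InC π H (Z + c • (N * Z - Z * N) - (c * c) • (N * Z * N)) := by
    intro c
    have h1 := h.conj hM (sRoot_mem_Ws hπ l v c)
    have hi : ((sRoot π l v c)⁻¹ : GL (Fin t → Fin k) F).val = 1 + (-c) • N :=
      left_inv_eq_right_inv (Units.inv_mul _) (by
        rw [sRoot_coe hπ]
        simp only [N, mul_add, add_mul, one_mul, mul_one, smul_mul_smul_comm, ← slot_mul', hπ.rk_sq, slot_zero',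
          smul_zero, add_zero]
        module)
    convert h1 using 1
    rw [conjHom_apply, sRoot_coe hπ, hi]
    simp only [N, add_mul, mul_add, one_mul, mul_one, smul_mul_assoc, mul_smul_comm, smul_add, smul_smul]
    module
  have h1 := ((((hc 1).add hπ (hc (-1))).sub hπ (h.smul hπ 2)).smul hπ (-(2 : F)⁻¹))
  convert h1 using 1
  match_scalars <;> field_simp [hπ.two] <;> ring

/-- One commutator of a pure element with a conjugate gives a product of root lines. -/
theorem IsPure.commutator (hπ : π.Alt) (hk : 0 < k) {H : Subgroup (GL (Fin (t + 1) → Fin k) F)}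
    (hM : ContainsS π H) {P : Fin (t + 1) → Matrix (Fin k) (Fin k) F} (h : IsPure π H P)
    (σ : Equiv.Perm (Fin (t + 1))) (hσ : σ * σ = 1) (h0 : Piece π (P 0))
    (hfix : ∀ j, Piece π (P j) → Piece π (P (σ j)) → σ j = j)
    (hmoved : ∀ j, Piece π (P j) → σ j ≠ j → IsE π (P j))
    (h0' : σ 0 = 0 → ¬ IsE π (P 0))
    [DecidablePred fun j => Piece π (P j) ∧ σ j = j]
    (hodd : Odd (Finset.univ.filter fun j => Piece π (P j) ∧ σ j = j).card) :
    ∃ P', IsPure π H P' ∧ (∀ j, P' j = 1 ∨ IsE π (P' j)) ∧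
      ∀ j, IsE π (P' j) ↔ (Piece π (P j) ∨ Piece π (P (σ j))) := by
  classical
  obtain ⟨hP, a, ha, g, hg, e⟩ := h
  choose pg hpg pR pR' pv' pρ hPQ hQP hv hρ hsR hsR' hY using fun p (hp : Piece π p) => exists_partner hπ (P := p) hp
  -- the conjugating slots
  let gs : Fin (t + 1) → GL (Fin k) F := fun j =>
    if hj : Piece π (P j) ∧ σ j = j then pg (P j) hj.1 else 1
  have hgsU : ∀ j, gs j ∈ U π := fun j => by
    by_cases hj : Piece π (P j) ∧ σ j = j
    · simp only [gs, dif_pos hj]; exact hpg _ _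
    · simp only [gs, dif_neg hj]; exact one_mem _
  have hσs : ∀ j, σ.symm j = σ j := fun j => by
    conv_lhs => rw [show j = σ (σ j) from (by rw [← Equiv.Perm.mul_apply, hσ]; rfl)]
    rw [Equiv.symm_apply_apply]
  set w : GL (Fin (t + 1) → Fin k) F := tensGL gs * factorPerm σ with hw
  have hwH : w ∈ H := mul_mem (ContainsS.le π hM (tensGL_mem_Ws π hgsU)) (hM.2 σ)
  let Q : Fin (t + 1) → Matrix (Fin k) (Fin k) F := fun j => (gs j).val * P (σ j) * ((gs j)⁻¹).val
  have hQ : conjHom w (tens P) = tens Q := by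
    rw [hw, conjHom_wreath_tens]
    congr 1
    funext j
    simp [Q, hσs]
  -- the products slot by slot
  let R : Fin (t + 1) → Matrix (Fin k) (Fin k) F := fun j =>
    if hj : Piece π (P j) ∧ σ j = j then pR (P j) hj.1 else P j * P (σ j)
  let R' : Fin (t + 1) → Matrix (Fin k) (Fin k) F := fun j =>
    if hj : Piece π (P j) ∧ σ j = j then pR' (P j) hj.1 else P j * P (σ j)
  let s : Fin (t + 1) → F := fun j => if Piece π (P j) ∧ σ j = j then -1 else 1
  have hQfix : ∀ j (hj : Piece π (P j) ∧ σ j = j),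
      Q j = (pg (P j) hj.1).val * P j * ((pg (P j) hj.1)⁻¹).val := fun j hj => by
    have e1 : gs j = pg (P j) hj.1 := dif_pos hj
    show (gs j).val * P (σ j) * _ = _
    rw [e1, congrArg P hj.2]
  have hQmove : ∀ j, ¬ (Piece π (P j) ∧ σ j = j) → Q j = P (σ j) := fun j hj => by
    simp only [Q, gs, dif_neg hj, inv_one, Units.val_one, one_mul, mul_one]
  have hone : ∀ j, ¬ (Piece π (P j) ∧ σ j = j) → P j = 1 ∨ P (σ j) = 1 := fun j hj => by
    rcases hP j with h | h
    · exact Or.inl h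
    rcases hP (σ j) with h' | h'
    · exact Or.inr h'
    · exact absurd ⟨h, hfix j h h'⟩ hj
  have hR : ∀ j, P j * Q j = R j := fun j => by
    by_cases hj : Piece π (P j) ∧ σ j = j
    · simp only [R, dif_pos hj, hQfix j hj, hPQ]
    · simp only [R, dif_neg hj, hQmove j hj]
  have hR' : ∀ j, Q j * P j = s j • R' j := fun j => by
    by_cases hj : Piece π (P j) ∧ σ j = j
    · simp only [R', s, dif_pos hj, if_pos hj, hQfix j hj, hQP, neg_one_smul]
    · simp only [R', s, dif_neg hj, if_neg hj, hQmove j hj, one_smul]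
      rcases hone j hj with h | h <;> simp [h]
  have hs : ∏ j, s j = -1 := by
    simp only [s, Finset.prod_ite, Finset.prod_const, one_pow, mul_one]
    exact hodd.neg_one_pow
  have hsum : tens P * tens Q - tens Q * tens P = tens R + tens R' := by
    rw [tens_mul, tens_mul]
    show tens (fun i => P i * Q i) - tens (fun i => Q i * P i) = _
    rw [funext hR, funext hR', tens_smul, hs, neg_one_smul, sub_neg_eq_add]
  -- the first slot
  obtain ⟨y, hy, hR0, hR'0, hkill, hkill'⟩ : ∃ y, y ≠ 0 ∧ R 0 = rk π y y ∧ R' 0 = rk π y y ∧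
      (∃ l, P l * Q l * P l = 0) ∧ ∃ l, Q l * P l * Q l = 0 := by
    by_cases h00 : σ 0 = 0
    · have hj : Piece π (P 0) ∧ σ 0 = 0 := ⟨h0, h00⟩
      obtain ⟨⟨y, hy, hy'⟩, he, hk1, hk2⟩ := hY (P 0) h0 (h0' h00)
      refine ⟨y, hy, by simp only [R, dif_pos hj, hy'], by simp only [R', dif_pos hj, he, hy'],
        ⟨0, ?_⟩, ⟨0, ?_⟩⟩
      · rw [hQfix 0 hj, hPQ, hk1]
      · rw [hQfix 0 hj, hQP, neg_mul, hk2, neg_zero]
    · obtain ⟨y, hy, hy'⟩ := hmoved 0 h0 h00
      have h1 : P (σ 0) = 1 := (hP _).resolve_right fun hh => h00 (hfix 0 h0 hh)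
      have hn : ¬ (Piece π (P 0) ∧ σ 0 = 0) := fun hh => h00 hh.2
      have hs0 : σ (σ 0) = 0 := by rw [← Equiv.Perm.mul_apply, hσ]; rfl
      have hn' : ¬ (Piece π (P (σ 0)) ∧ σ (σ 0) = σ 0) := fun hh => h00 (σ.injective hh.2)
      refine ⟨y, hy, by simp only [R, dif_neg hn, h1, mul_one, hy'], by simp only [R', dif_neg hn, h1, mul_one, hy'],
        ⟨0, ?_⟩, ⟨σ 0, ?_⟩⟩
      · rw [hQmove 0 hn, h1, mul_one, h0.sq hπ]
      · rw [hQmove _ hn', hs0, h1, mul_one, h0.sq hπ]
  set A := tens P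
  set B := tens Q
  have hAA : A * A = 0 := by rw [tens_mul]; exact tens_eq_zero (l := 0) (h0.sq hπ)
  have hBB : B * B = 0 := by rw [← hQ, ← map_mul, hAA, map_zero]
  have hABA : A * B * A = 0 := by
    obtain ⟨l, hl⟩ := hkill
    rw [tens_mul, tens_mul]; exact tens_eq_zero (l := l) hl
  have hBAB : B * A * B = 0 := by
    obtain ⟨l, hl⟩ := hkill'
    rw [tens_mul, tens_mul]; exact tens_eq_zero (l := l) hl
  have hgi : (g⁻¹).val = 1 - a • A := left_inv_eq_right_inv (Units.inv_mul g) (by
    rw [e]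
    simp only [mul_sub, add_mul, one_mul, mul_one, smul_mul_smul_comm, hAA, smul_zero, add_zero, add_sub_cancel_right])
  have hwg : (w * g * w⁻¹).val = 1 + a • B := by
    rw [Units.val_mul, Units.val_mul, e, conj_one_add, ← conjHom_apply, map_smul, hQ]
  have hwgi : ((w * g * w⁻¹)⁻¹).val = 1 - a • B := left_inv_eq_right_inv (Units.inv_mul _) (by
    rw [hwg]
    simp only [mul_sub, add_mul, one_mul, mul_one, smul_mul_smul_comm, hBB, smul_zero, add_zero, add_sub_cancel_right])
  have hcom : (g * (w * g * w⁻¹) * g⁻¹ * (w * g * w⁻¹)⁻¹).val = 1 + (a * a) • (tens R + tens R') := by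
    have hconj : (g * (w * g * w⁻¹) * g⁻¹).val = 1 + a • B + (a * a) • (A * B - B * A) := by
      rw [Units.val_mul, Units.val_mul, e, hwg, hgi]
      simp only [mul_add, add_mul, mul_sub, one_mul, mul_one, smul_mul_assoc, mul_smul_comm, hAA, hABA,
        smul_zero, sub_zero, add_zero]
      module
    rw [Units.val_mul, hconj, hwgi, ← hsum]
    simp only [mul_add, add_mul, mul_sub, sub_mul, one_mul, mul_one, smul_mul_assoc, mul_smul_comm, hBB, hBAB,
      smul_zero, sub_zero, add_zero, smul_sub, smul_add, smul_smul, mul_assoc A B B, mul_zero]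
    module
  have hin : InC π H (tens (fun l => R l.succ) + tens fun l => R' l.succ) := by
    have h1 : InC π H ((a * a) • (tens (fun l => R l.succ) + tens fun l => R' l.succ)) :=
      InC.of_one hπ hM hy ⟨_, mul_mem (mul_mem (mul_mem hg (mul_mem (mul_mem hwH hg) (inv_mem hwH))) (inv_mem hg))
        (inv_mem (mul_mem (mul_mem hwH hg) (inv_mem hwH))), by
        rw [hcom, tens_eq_kz R, tens_eq_kz R', hR0, hR'0, kz_smul_right, kz_add_right]⟩
    have h2 := h1.smul hπ (a * a)⁻¹
    rwa [smul_smul, inv_mul_cancel₀ (mul_ne_zero ha ha), one_smul] at h2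
  -- sandwiches
  let supp : Fin (t + 1) → Prop := fun j => Piece π (P j) ∨ Piece π (P (σ j))
  have hsand : ∀ j, supp j → ∃ v, v ≠ 0 ∧ ∃ ρ : F, ρ ≠ 0 ∧ rk π v v * R j * rk π v v = ρ • rk π v v ∧
      rk π v v * R' j * rk π v v = ρ • rk π v v := by
    intro j hj
    by_cases hf : Piece π (P j) ∧ σ j = j
    · refine ⟨pv' (P j) hf.1, hv _ _, pρ (P j) hf.1, hρ _ _, ?_, ?_⟩
      · simp only [R, dif_pos hf]; exact hsR _ _
      · simp only [R', dif_pos hf]; exact hsR' _ _
    · obtain ⟨z, hz, hz'⟩ : IsE π (P j * P (σ j)) := by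
        rcases hj with h | h
        · rw [(hone j hf).resolve_left fun e1 => h.ne_one hπ e1, mul_one]
          exact hmoved j h fun e1 => hf ⟨h, e1⟩
        · rw [(hone j hf).resolve_right fun e1 => h.ne_one hπ e1, one_mul]
          refine hmoved (σ j) h fun e1 => hf ?_
          have e2 : σ j = j := σ.injective e1
          exact ⟨e2 ▸ h, e2⟩
      obtain ⟨v, hv⟩ := exists_right_eq_one π hz
      have hvz : bf π v z = -1 := by rw [hπ.skew, hv]
      refine ⟨v, fun e1 => ?_, -1, neg_ne_zero.mpr one_ne_zero, ?_, ?_⟩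
      · rw [e1, bf_zero_right] at hv; exact zero_ne_one hv
      · simp only [R, dif_neg hf, hz', rk_mul, smul_mul_assoc, hv, hvz, smul_smul, neg_mul, one_mul, mul_neg,
          neg_smul, one_smul]
      · simp only [R', dif_neg hf, hz', rk_mul, smul_mul_assoc, hv, hvz, smul_smul, neg_mul, one_mul, mul_neg,
          neg_smul, one_smul]
  choose! sv hsv sρ hsρ hs1 hs2 using hsand
  have hout : ∀ j, ¬ supp j → R j = 1 ∧ R' j = 1 := by
    intro j hj
    simp only [supp, not_or] at hj
    have hn : ¬ (Piece π (P j) ∧ σ j = j) := fun hh => hj.1 hh.1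
    simp only [R, R', dif_neg hn, (hP j).resolve_right hj.1, (hP (σ j)).resolve_right hj.2, mul_one, and_self]
  let P' : Fin t → Matrix (Fin k) (Fin k) F := fun l =>
    if supp l.succ then rk π (sv l.succ) (sv l.succ) else 1
  have hfin : ∀ S : Finset (Fin t), InC π H
      (tens (fun l => if l ∈ S ∧ supp l.succ then sρ l.succ • P' l else R l.succ) +
        tens (fun l => if l ∈ S ∧ supp l.succ then sρ l.succ • P' l else R' l.succ)) := by
    intro S
    induction S using Finset.induction with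
    | empty => simpa using hin
    | insert l S hl ih =>
      by_cases hsl : supp l.succ
      · have h1 := ih.sandwich hπ hM l (sv l.succ)
        convert h1 using 1
        rw [mul_add, add_mul, slot_mul_tens, slot_mul_tens, tens_mul_slot, tens_mul_slot,
          Function.update_idem, Function.update_idem]
        congr 1 <;> congr 1 <;> funext j <;> rcases eq_or_ne j l with rfl | hjl <;>
          simp [*, P', Function.update_of_ne, Finset.mem_insert]
      · convert ih using 3 <;> (funext j; rcases eq_or_ne j l with rfl | hjl <;> simp [*, Finset.mem_insert])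
  have hlast := hfin Finset.univ
  let c : Fin t → F := fun l => if supp l.succ then sρ l.succ else 1
  have hc0 : ∏ l, c l ≠ 0 := Finset.prod_ne_zero_iff.mpr fun l _ => by
    by_cases hl : supp l.succ
    · simp only [c, if_pos hl]; exact hsρ _ hl
    · simp only [c, if_neg hl]; exact one_ne_zero
  have hsame : ∀ X : Fin (t + 1) → Matrix (Fin k) (Fin k) F, (∀ j, ¬ supp j → X j = 1) →
      tens (fun l => if l ∈ (Finset.univ : Finset (Fin t)) ∧ supp l.succ then sρ l.succ • P' l else X l.succ) =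
        (∏ l, c l) • tens P' := by
    intro X hX
    rw [← tens_smul]
    congr 1
    funext l
    by_cases hl : supp l.succ
    · simp [c, hl]
    · simp [c, hl, P', hX _ hl]
  rw [hsame R fun j hj => (hout j hj).1, hsame R' fun j hj => (hout j hj).2, ← add_smul, ← two_mul] at hlast
  have hP'in : InC π H (tens P') := by
    have := hlast.smul hπ (2 * ∏ l, c l)⁻¹
    rwa [smul_smul, inv_mul_cancel₀ (mul_ne_zero hπ.two hc0), one_smul] at this
  have hP'E : ∀ l, P' l = 1 ∨ IsE π (P' l) := fun l => by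
    by_cases hl : supp l.succ
    · exact Or.inr ⟨_, hsv _ hl, by simp [P', hl]⟩
    · exact Or.inl (by simp [P', hl])
  refine ⟨Fin.cons (rk π y y) P', InC.isPure hy (fun l => (hP'E l).imp_right IsE.piece) hP'in, fun j => ?_, fun j => ?_⟩
  · refine Fin.cases ?_ (fun l => ?_) j
    · rw [Fin.cons_zero]; exact Or.inr ⟨y, hy, rfl⟩
    · rw [Fin.cons_succ]; exact hP'E l
  · refine Fin.cases ?_ (fun l => ?_) j
    · rw [Fin.cons_zero]; exact ⟨fun _ => Or.inl h0, fun _ => ⟨y, hy, rfl⟩⟩
    · rw [Fin.cons_succ]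
      by_cases hl : supp l.succ
      · exact ⟨fun _ => hl, fun _ => ⟨_, hsv _ hl, by simp [P', hl]⟩⟩
      · refine ⟨fun hE => absurd (by simp [P', hl] : P' l = 1) (hE.piece.ne_one hπ), fun h' => absurd h' hl⟩

end Cfsg.Agent.WreathS
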