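import Cfsg.Agent.WreathS.Comm

/-!
In an odd tensor power a pure element gives every symplectic transvection (helper56).
-/

set_option autoImplicit false
set_option linter.unusedSectionVars false

namespace Cfsg.Agent.WreathS

open Matrix Cfsg.Agent.MaxSub Cfsg.Agent.MaxSub.Asch Cfsg.Agent.FG75.SpinTensor Cfsg.Agent.WreathMax

variable {F : Type*} [Field F] [Finite F] {k t : ℕ} {π : Sgn F (Fin k)}

theorem pv_ne_zero {x : Fin t → Fin k → F} (hx : ∀ i, x i ≠ 0) : pv x ≠ 0 := by
  intro h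
  choose c hc using fun i => Function.ne_iff.mp (hx i)
  exact Finset.prod_ne_zero_iff.mpr (fun i _ => hc i) (congrFun h c)

theorem kz_rk_pv (x₀ : Fin k → F) (x : Fin t → Fin k → F) (c : F) :
    kz (rk π x₀ x₀) (c • tens fun i => rk π (x i) (x i)) =
      c • rk (powS π (t + 1)) (pv (Fin.cons x₀ x)) (pv (Fin.cons x₀ x)) := by
  rw [rk_pv, tens_eq_kz, kz_smul_right]
  simp only [Fin.cons_zero, Fin.cons_succ]

/-- Three non-zero functionals have a common non-zero value. -/
theorem exists_three {V : Type*} [AddCommGroup V] [Module F V] (two : (2 : F) ≠ 0) (φ₁ φ₂ φ₃ : V →ₗ[F] F)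
    (h₁ : φ₁ ≠ 0) (h₂ : φ₂ ≠ 0) (h₃ : φ₃ ≠ 0) : ∃ y, φ₁ y ≠ 0 ∧ φ₂ y ≠ 0 ∧ φ₃ y ≠ 0 := by
  have two' : ∀ φ ψ : V →ₗ[F] F, φ ≠ 0 → ψ ≠ 0 → ∃ y, φ y ≠ 0 ∧ ψ y ≠ 0 := by
    intro φ ψ hφ hψ
    obtain ⟨a, ha⟩ : ∃ a, φ a ≠ 0 := by by_contra hc; push Not at hc; exact hφ (LinearMap.ext hc)
    obtain ⟨b, hb⟩ : ∃ b, ψ b ≠ 0 := by by_contra hc; push Not at hc; exact hψ (LinearMap.ext hc)
    by_cases h1 : ψ a = 0
    · by_cases h2 : φ b = 0
      · exact ⟨a + b, by rw [map_add, h2, add_zero]; exact ha, by rw [map_add, h1, zero_add]; exact hb⟩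
      · exact ⟨b, h2, hb⟩
    · exact ⟨a, ha, h1⟩
  obtain ⟨a, ha1, ha2⟩ := two' φ₁ φ₂ h₁ h₂
  obtain ⟨b, hb1, hb3⟩ := two' φ₁ φ₃ h₁ h₃
  by_cases ha3 : φ₃ a ≠ 0
  · exact ⟨a, ha1, ha2, ha3⟩
  by_cases hb2 : φ₂ b ≠ 0
  · exact ⟨b, hb1, hb2, hb3⟩
  simp only [not_not] at ha3 hb2
  by_cases hp : φ₁ (a + b) ≠ 0
  · exact ⟨a + b, hp, by rw [map_add, hb2, add_zero]; exact ha2, by rw [map_add, ha3, zero_add]; exact hb3⟩
  simp only [not_not, map_add] at hp
  refine ⟨a - b, fun h => ha1 ?_, by rw [map_sub, hb2, sub_zero]; exact ha2,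
    by rw [map_sub, ha3, zero_sub, neg_ne_zero]; exact hb3⟩
  rw [map_sub] at h
  exact (mul_eq_zero.mp (show (2 : F) * φ₁ a = 0 by linear_combination h + hp)).resolve_left two

/-- Three non-zero covectors have a common non-zero value at a pure tensor. -/
theorem exists_pv_three (two : (2 : F) ≠ 0) : ∀ {t : ℕ} (a b c : (Fin t → Fin k) → F), a ≠ 0 → b ≠ 0 → c ≠ 0 →
    ∃ x : Fin t → Fin k → F, a ⬝ᵥ pv x ≠ 0 ∧ b ⬝ᵥ pv x ≠ 0 ∧ c ⬝ᵥ pv x ≠ 0 := by
  intro t
  induction t with
  | zero =>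
    intro a b c ha hb hc
    refine ⟨fun i => i.elim0, ?_⟩
    have e : ∀ u : (Fin 0 → Fin k) → F, u ≠ 0 → u ⬝ᵥ pv (fun i : Fin 0 => (i.elim0 : Fin k → F)) ≠ 0 := by
      intro u hu h
      refine hu (funext fun z => ?_)
      simp only [dotProduct, pv, Finset.univ_eq_empty, Finset.prod_empty, mul_one] at h
      rwa [Fintype.sum_subsingleton _ z] at h
    exact ⟨e a ha, e b hb, e c hc⟩
  | succ t ih =>
    intro a b c ha hb hc
    have slice : ∀ u : (Fin (t + 1) → Fin k) → F, u ≠ 0 → ∃ d, (fun z => u (Fin.cons d z)) ≠ 0 := by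
      intro u hu
      obtain ⟨z, hz⟩ := Function.ne_iff.mp hu
      exact ⟨z 0, fun h => hz (by have := congrFun h (Fin.tail z); simpa [Fin.cons_self_tail] using this)⟩
    obtain ⟨da, hda⟩ := slice a ha
    obtain ⟨db, hdb⟩ := slice b hb
    obtain ⟨dc, hdc⟩ := slice c hc
    obtain ⟨x, hxa, hxb, hxc⟩ := ih _ _ _ hda hdb hdc
    let L : ((Fin (t + 1) → Fin k) → F) → ((Fin k → F) →ₗ[F] F) := fun u =>
      { toFun := fun y => u ⬝ᵥ cz y (pv x)
        map_add' := fun y y' => by rw [← dotProduct_add]; congr 1; funext z; simp [cz, add_mul]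
        map_smul' := fun r y => by rw [RingHom.id_apply, ← dotProduct_smul]; congr 1; funext z; simp [cz, mul_assoc] }
    have hL : ∀ u d, (fun z => u (Fin.cons d z)) ⬝ᵥ pv x ≠ 0 → L u ≠ 0 := fun u d h h0 => h (by
      have h1 : L u (Pi.single d 1) = 0 := by rw [h0]; rfl
      simp only [L, LinearMap.coe_mk, AddHom.coe_mk, dotProduct, cz, sum_cons, Fin.cons_zero, Fin.tail_cons] at h1
      rw [Finset.sum_eq_single d (fun e _ he => by simp [he]) (by simp)] at h1
      simpa [dotProduct] using h1)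
    obtain ⟨y, hya, hyb, hyc⟩ := exists_three two (L a) (L b) (L c) (hL a da hxa) (hL b db hxb) (hL c dc hxc)
    exact ⟨Fin.cons y x, by rw [pv_cons]; exact hya, by rw [pv_cons]; exact hyb, by rw [pv_cons]; exact hyc⟩

variable {H : Subgroup (GL (Fin (t + 1) → Fin k) F)}

/-- The slots carrying a root line. -/
noncomputable def eSet (π : Sgn F (Fin k)) (P : Fin t → Matrix (Fin k) (Fin k) F) : Finset (Fin t) :=
  @Finset.filter _ (fun l => IsE π (P l)) (Classical.decPred _) Finset.univ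

theorem mem_eSet {P : Fin t → Matrix (Fin k) (Fin k) F} {l : Fin t} : l ∈ eSet π P ↔ IsE π (P l) := by
  classical
  simp [eSet]

theorem eSet_odd (hπ : π.Alt) (hk : 0 < k) (hH : H ≤ U (powS π (t + 1)))
    {P : Fin (t + 1) → Matrix (Fin k) (Fin k) F} (h : IsPure π H P) (hne : ∃ l, Piece π (P l)) :
    Odd (eSet π P).card := by
  classical
  have := h.eq_one_or_isE_card hπ hk (Nat.succ_pos t) hH hne
  convert this using 2
  ext l; simp [mem_eSet]

theorem eSet_comp (P : Fin t → Matrix (Fin k) (Fin k) F) (σ : Equiv.Perm (Fin t)) :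
    eSet π (P ∘ σ.symm) = (eSet π P).map σ.toEmbedding := by
  ext l; simp [mem_eSet]

/-- A pure element gives one supported by root lines on at least three slots. -/
theorem exists_all_isE (hπ : π.Alt) (hk : 0 < k) (hodd : Odd (t + 1)) (hH : H ≤ U (powS π (t + 1)))
    (hM : ContainsS π H) {P : Fin (t + 1) → Matrix (Fin k) (Fin k) F} (h : IsPure π H P)
    {l₁ l₂ : Fin (t + 1)} (h12 : l₁ ≠ l₂) (hl₁ : Piece π (P l₁)) (hl₂ : Piece π (P l₂)) :
    ∃ P', IsPure π H P' ∧ (∀ j, P' j = 1 ∨ IsE π (P' j)) ∧ 3 ≤ (eSet π P').card := by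
  classical
  have hbig : ∀ P' : Fin (t + 1) → Matrix (Fin k) (Fin k) F, IsPure π H P' →
      (∃ j₁ j₂, j₁ ≠ j₂ ∧ IsE π (P' j₁) ∧ IsE π (P' j₂)) → 3 ≤ (eSet π P').card := by
    rintro P' hp ⟨j₁, j₂, hj, e1, e2⟩
    have h2 : 1 < (eSet π P').card :=
      Finset.one_lt_card.mpr ⟨j₁, mem_eSet.mpr e1, j₂, mem_eSet.mpr e2, hj⟩
    obtain ⟨m, hm⟩ := eSet_odd hπ hk hH hp ⟨j₁, e1.piece⟩
    omega
  by_cases hall : ∀ j, P j = 1 ∨ IsE π (P j)
  · exact ⟨P, h, hall, hbig P h ⟨l₁, l₂, h12, (hall l₁).resolve_left (hl₁.ne_one hπ),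
      (hall l₂).resolve_left (hl₂.ne_one hπ)⟩⟩
  push Not at hall
  obtain ⟨y, hy1, hyE⟩ := hall
  set μ : Equiv.Perm (Fin (t + 1)) := Equiv.swap 0 y with hμ
  set P₀ := P ∘ μ.symm with hP₀
  have h' : IsPure π H P₀ := h.move hM μ
  have h0 : Piece π (P₀ 0) := by simpa [P₀, hμ] using (h.1 y).resolve_left hy1
  have hE0 : ¬ IsE π (P₀ 0) := by simpa [P₀, hμ] using hyE
  obtain ⟨P', hp', hall', hsupp⟩ : ∃ P', IsPure π H P' ∧ (∀ j, P' j = 1 ∨ IsE π (P' j)) ∧
      ∀ j, Piece π (P₀ j) → IsE π (P' j) := by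
    set T := Finset.univ.filter fun j => Piece π (P₀ j) with hT
    rcases Nat.even_or_odd T.card with hev | hod
    · obtain ⟨f, hf⟩ : ∃ f, ¬ Piece π (P₀ f) := by
        by_contra hc
        push Not at hc
        rw [show T = Finset.univ by ext j; simp [T, hc j], Finset.card_univ, Fintype.card_fin] at hev
        exact Nat.not_even_iff_odd.mpr hodd hev
      obtain ⟨s, hs⟩ : ∃ s, IsE π (P₀ s) := by
        obtain ⟨s, hs⟩ := Finset.card_pos.mp (eSet_odd hπ hk hH h' ⟨0, h0⟩).pos
        exact ⟨s, mem_eSet.mp hs⟩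
      have hsf : s ≠ f := fun e => hf (e ▸ hs.piece)
      have hs0 : s ≠ 0 := fun e => hE0 (e ▸ hs)
      have hf0 : f ≠ 0 := fun e => hf (e ▸ h0)
      have hcard : Finset.univ.filter (fun j => Piece π (P₀ j) ∧ Equiv.swap s f j = j) = T.erase s := by
        ext j
        simp only [T, Finset.mem_filter, Finset.mem_univ, true_and, Finset.mem_erase]
        constructor
        · rintro ⟨hj, hfix⟩
          exact ⟨fun e => hsf (by rw [e, Equiv.swap_apply_left] at hfix; exact hfix.symm), hj⟩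
        · rintro ⟨hjs, hj⟩
          exact ⟨hj, Equiv.swap_apply_of_ne_of_ne hjs fun e => hf (e ▸ hj)⟩
      obtain ⟨P', hp', hall', hiff⟩ := h'.commutator hπ hk hM (Equiv.swap s f) (Equiv.swap_mul_self s f) h0
        (fun j hj hj' => by
          by_contra hne
          rcases (Equiv.swap_apply_ne_self_iff.mp hne).2 with rfl | rfl
          · rw [Equiv.swap_apply_left] at hj'; exact hf hj'
          · exact hf hj)
        (fun j hj hne => by
          rcases (Equiv.swap_apply_ne_self_iff.mp hne).2 with rfl | rfl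
          · exact hs
          · exact absurd hj hf)
        (fun _ => hE0)
        (by
          rw [hcard, Finset.card_erase_of_mem (by simp [T, hs.piece])]
          have := Finset.card_pos.mpr ⟨s, show s ∈ T by simp [T, hs.piece]⟩
          obtain ⟨m, hm⟩ := hev
          exact ⟨m - 1, by omega⟩)
      exact ⟨P', hp', hall', fun j hj => (hiff j).mpr (Or.inl hj)⟩
    · obtain ⟨P', hp', hall', hiff⟩ := h'.commutator hπ hk hM 1 (mul_one 1) h0 (fun j _ _ => rfl)
        (fun j _ hne => absurd rfl hne) (fun _ => hE0) (by convert hod using 3; simp [T])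
      exact ⟨P', hp', hall', fun j hj => (hiff j).mpr (Or.inl hj)⟩
  exact ⟨P', hp', hall', hbig P' hp' ⟨μ l₁, μ l₂, μ.injective.ne h12, hsupp _ (by simpa [P₀] using hl₁),
    hsupp _ (by simpa [P₀] using hl₂)⟩⟩

/-- The root lines spread over all slots. -/
theorem exists_full (hπ : π.Alt) (hk : 0 < k) (hodd : Odd (t + 1)) (hH : H ≤ U (powS π (t + 1)))
    (hM : ContainsS π H) : ∀ n, ∀ P : Fin (t + 1) → Matrix (Fin k) (Fin k) F, IsPure π H P →
      (∀ j, P j = 1 ∨ IsE π (P j)) → 3 ≤ (eSet π P).card → (t + 1) - (eSet π P).card ≤ n →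
      ∃ P', IsPure π H P' ∧ ∀ j, IsE π (P' j) := by
  classical
  intro n
  induction n with
  | zero =>
    intro P h hall h3 hn
    refine ⟨P, h, fun j => mem_eSet.mp ?_⟩
    rw [Finset.eq_univ_of_card (eSet π P) (by
      have := Finset.card_le_univ (eSet π P)
      simp only [Fintype.card_fin] at this ⊢
      omega)]
    exact Finset.mem_univ j
  | succ n ih =>
    intro P h hall h3 hn
    by_cases hfull : ∀ j, IsE π (P j)
    · exact ⟨P, h, hfull⟩
    set S := eSet π P with hS
    obtain ⟨s, hs⟩ := Finset.card_pos.mp (show 0 < S.card by omega)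
    have hmove := h.move hM (Equiv.swap 0 s)
    set P₀ := P ∘ (Equiv.swap 0 s).symm
    set S₀ := eSet π P₀
    have hcard₀ : S₀.card = S.card := by rw [show S₀ = _ from eSet_comp P _, Finset.card_map]
    have hall₀ : ∀ j, P₀ j = 1 ∨ IsE π (P₀ j) := fun j => hall _
    have hE0 : IsE π (P₀ 0) := by simpa [P₀] using mem_eSet.mp hs
    have hodd₀ : Odd S₀.card := eSet_odd hπ hk hH hmove ⟨0, hE0.piece⟩
    have h0m' : (0 : Fin (t + 1)) ∈ S₀ := mem_eSet.mpr hE0
    obtain ⟨s', hs'⟩ := Finset.card_pos.mp (show 0 < (S₀.erase 0).card by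
      rw [Finset.card_erase_of_mem h0m']; omega)
    have hlt : S₀.card < t + 1 := by
      rw [hcard₀]
      refine lt_of_le_of_ne (by simpa using Finset.card_le_univ S) fun e => hfull fun j => mem_eSet.mp ?_
      rw [← hS, Finset.eq_univ_of_card S (by simpa using e)]
      exact Finset.mem_univ j
    have h2free : 1 < S₀ᶜ.card := by
      rw [Finset.card_compl, Fintype.card_fin]
      obtain ⟨m, hm⟩ := hodd
      obtain ⟨m', hm'⟩ := hodd₀
      omega
    obtain ⟨f, hf, f', hf', hff⟩ := Finset.one_lt_card.mp h2free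
    rw [Finset.mem_compl] at hf hf'
    obtain ⟨hs'0, hs'm⟩ := Finset.mem_erase.mp hs'
    have h0m : (0 : Fin (t + 1)) ∈ S₀ := mem_eSet.mpr hE0
    have hf0 : f ≠ 0 := fun e => hf (e ▸ h0m)
    have hf'0 : f' ≠ 0 := fun e => hf' (e ▸ h0m)
    have hfs' : f ≠ s' := fun e => hf (e ▸ hs'm)
    have hf's' : f' ≠ s' := fun e => hf' (e ▸ hs'm)
    set σ : Equiv.Perm (Fin (t + 1)) := Equiv.swap 0 f * Equiv.swap s' f' with hσ
    have hσ0 : σ 0 = f := by
      rw [hσ, Equiv.Perm.mul_apply, Equiv.swap_apply_of_ne_of_ne hs'0.symm hf'0.symm, Equiv.swap_apply_left]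
    have hσf : σ f = 0 := by
      rw [hσ, Equiv.Perm.mul_apply, Equiv.swap_apply_of_ne_of_ne hfs' hff, Equiv.swap_apply_right]
    have hσs : σ s' = f' := by
      rw [hσ, Equiv.Perm.mul_apply, Equiv.swap_apply_left, Equiv.swap_apply_of_ne_of_ne hf'0 hff.symm]
    have hσf' : σ f' = s' := by
      rw [hσ, Equiv.Perm.mul_apply, Equiv.swap_apply_right, Equiv.swap_apply_of_ne_of_ne hs'0 hfs'.symm]
    have hσo : ∀ j, j ≠ 0 → j ≠ f → j ≠ s' → j ≠ f' → σ j = j := fun j a b c d => by
      rw [hσ, Equiv.Perm.mul_apply, Equiv.swap_apply_of_ne_of_ne c d, Equiv.swap_apply_of_ne_of_ne a b]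
    have hσ2 : σ * σ = 1 := by
      refine Equiv.ext fun j => ?_
      simp only [Equiv.Perm.mul_apply, Equiv.Perm.one_apply]
      by_cases a : j = 0
      · rw [a, hσ0, hσf]
      by_cases b : j = f
      · rw [b, hσf, hσ0]
      by_cases c : j = s'
      · rw [c, hσs, hσf']
      by_cases d : j = f'
      · rw [d, hσf', hσs]
      rw [hσo j a b c d, hσo j a b c d]
    have hp : ∀ j, Piece π (P₀ j) ↔ j ∈ S₀ := fun j => by
      refine ⟨fun hj => mem_eSet.mpr ((hall₀ j).resolve_left (hj.ne_one hπ)), fun hj => (mem_eSet.mp hj).piece⟩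
    have hfilter : Finset.univ.filter (fun j => Piece π (P₀ j) ∧ σ j = j) = (S₀.erase 0).erase s' := by
      ext j
      simp only [Finset.mem_filter, Finset.mem_univ, true_and, Finset.mem_erase, hp]
      constructor
      · rintro ⟨hj, hfix⟩
        refine ⟨fun e => ?_, fun e => ?_, hj⟩
        · rw [e, hσs] at hfix; exact hf's' hfix
        · rw [e, hσ0] at hfix; exact hf0 hfix
      · rintro ⟨a, b, hj⟩
        exact ⟨hj, hσo j b (fun e => hf (e ▸ hj)) a (fun e => hf' (e ▸ hj))⟩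
    obtain ⟨P', hp', hall', hiff⟩ := hmove.commutator hπ hk hM σ hσ2 hE0.piece
      (fun j hj hj' => by
        by_contra hne
        rw [hp] at hj hj'
        by_cases a : j = 0
        · rw [a, hσ0] at hj'; exact hf hj'
        by_cases b : j = f
        · exact hf (b ▸ hj)
        by_cases c : j = s'
        · rw [c, hσs] at hj'; exact hf' hj'
        by_cases d : j = f'
        · exact hf' (d ▸ hj)
        exact hne (hσo j a b c d))
      (fun j hj _ => (hall₀ j).resolve_left (hj.ne_one hπ))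
      (fun h00 => absurd h00 (by rw [hσ0]; exact hf0))
      (by
        rw [hfilter, Finset.card_erase_of_mem hs', Finset.card_erase_of_mem h0m]
        obtain ⟨m, hm⟩ := hodd₀
        exact ⟨m - 1, by omega⟩)
    have hss : S₀ ⊆ eSet π P' := fun j hj => mem_eSet.mpr ((hiff j).mpr (Or.inl ((hp j).mpr hj)))
    have hfin : f ∈ eSet π P' := mem_eSet.mpr ((hiff f).mpr (Or.inr (by rw [hσf]; exact hE0.piece)))
    have hlt' : S₀.card < (eSet π P').card := Finset.card_lt_card ⟨hss, fun hc => hf (hc hfin)⟩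
    exact ih P' hp' hall' (by omega) (by omega)

/-- A pure element gives every isometry. -/
theorem isom_le_of_isPure (hπ : π.Alt) (hk : 0 < k) (hodd : Odd (t + 1)) (hH : H ≤ U (powS π (t + 1)))
    (hM : ContainsS π H) {P : Fin (t + 1) → Matrix (Fin k) (Fin k) F} (h : IsPure π H P)
    {l₁ l₂ : Fin (t + 1)} (h12 : l₁ ≠ l₂) (hl₁ : Piece π (P l₁)) (hl₂ : Piece π (P l₂)) :
    U (powS π (t + 1)) ≤ H := by
  classical
  obtain ⟨P₁, h₁, hall₁, hc₁⟩ := exists_all_isE hπ hk hodd hH hM h h12 hl₁ hl₂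
  obtain ⟨P₂, ⟨-, a, ha, g, hg, hgv⟩, hE⟩ := exists_full hπ hk hodd hH hM _ P₁ h₁ hall₁ hc₁ le_rfl
  choose x hx0 hx using hE
  have hF := powS_alt hπ hodd
  have hZ : InC π H (tens fun i => rk π (x i.succ) (x i.succ)) := by
    have h1 : InC π H (a • tens fun i => rk π (x i.succ) (x i.succ)) :=
      InC.of_one hπ hM (hx0 0) ⟨g, hg, by rw [hgv, funext hx, tens_eq_kz, kz_smul_right]⟩
    have := h1.smul hπ a⁻¹
    rwa [smul_smul, inv_mul_cancel₀ ha, one_smul] at this
  have hcen : ∀ y : Fin (t + 1) → Fin k → F, pv y ∈ centres (bf (powS π (t + 1))) H := by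
    intro y
    by_cases hy : ∀ i, y i ≠ 0
    swap
    · push Not at hy
      obtain ⟨i, hi⟩ := hy
      have e0 : pv y = 0 := by
        funext z; exact Finset.prod_eq_zero (Finset.mem_univ i) (by rw [hi]; rfl)
      intro c
      have : st (bf (powS π (t + 1))) (0 : (Fin (t + 1) → Fin k) → F) c = 1 := Units.ext (by
        rw [st_coe hF, rk_zero_left, smul_zero, add_zero, Units.val_one])
      rw [e0, this]; exact one_mem H
    choose gs hgs hgy using fun i => exists_map hπ (hx0 i) (hy i)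
    intro c
    obtain ⟨g', hg', hgv'⟩ := hZ.smul hπ c (x 0)
    have hgi : (g' : Matrix _ _ F) = 1 + c • rk (powS π (t + 1)) (pv x) (pv x) := by
      rw [hgv', kz_rk_pv, show (Fin.cons (x 0) fun i => x i.succ) = x from Fin.cons_self_tail x]
    have hst : st (bf (powS π (t + 1))) (pv x) c ∈ H := by
      rw [show st (bf (powS π (t + 1))) (pv x) c = g' from Units.ext (by rw [st_coe hF, hgi])]; exact hg'
    have hw : tensGL gs ∈ H := ContainsS.le π hM (tensGL_mem_Ws π hgs)
    have hwy : (tensGL gs : GL (Fin (t + 1) → Fin k) F).val *ᵥ pv x = pv y := by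
      show tens _ *ᵥ pv x = _
      rw [tens_mulVec_pv]; congr 1; funext i; exact hgy i
    rw [← hwy, ← st_conj hF.form (hH hw)]
    exact mul_mem (mul_mem hw hst) (inv_mem hw)
  set C := centres (bf (powS π (t + 1))) H
  have hadd : ∀ v ∈ C, ∀ y, v + pv y ∈ C := by
    intro v hv y
    by_cases hne : bf (powS π (t + 1)) v (pv y) ≠ 0
    · simpa using add_smul_mem_centres hF.form hv (hcen y) hne 1
    rw [not_not] at hne
    by_cases hsum : v + pv y = 0
    · rw [hsum]
      simpa using smul_mem_centres hF.form hv (0 : F)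
    by_cases hv0 : v = 0
    · rw [hv0, zero_add]; exact hcen y
    by_cases hy0 : pv y = 0
    · rw [hy0, add_zero]; exact hv
    have hcv : ∀ w, w ≠ 0 → cv (powS π (t + 1)) w ≠ 0 := fun w hw e => hw (by
      funext z
      have := congrFun e ((powS π (t + 1)).J z)
      simp only [cv, (powS π (t + 1)).inv, Pi.zero_apply, mul_eq_zero] at this
      exact this.resolve_left fun h0 => one_ne_zero (α := F) (by
        rw [← (powS π (t + 1)).ε_sq ((powS π (t + 1)).J z), h0, mul_zero]))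
    obtain ⟨u, hu1, hu2, hu3⟩ := exists_pv_three (k := k) hπ.two (cv (powS π (t + 1)) v) (cv (powS π (t + 1)) (pv y))
      (cv (powS π (t + 1)) (v + pv y)) (hcv _ hv0) (hcv _ hy0) (hcv _ hsum)
    have a1 : bf (powS π (t + 1)) v (pv u) ≠ 0 := fun e => hu1 (bf_eq_zero_comm _ e)
    have s1 := add_smul_mem_centres hF.form hv (hcen u) a1 1
    rw [one_smul] at s1
    have a2 : bf (powS π (t + 1)) (v + pv u) (pv y) ≠ 0 := by
      rw [hF.form.bilinear.add_left, hne, zero_add]
      exact hu2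
    have s2 := add_smul_mem_centres hF.form s1 (hcen y) a2 1
    rw [one_smul] at s2
    have a3 : bf (powS π (t + 1)) (v + pv u + pv y) (pv u) ≠ 0 := by
      rw [show v + pv u + pv y = (v + pv y) + pv u by abel, hF.form.bilinear.add_left, hF.form.alternating, add_zero,
        hF.form.skew, neg_ne_zero]
      exact hu3
    have s3 := add_smul_mem_centres hF.form s2 (hcen u) a3 (-1)
    convert s3 using 1
    module
  refine isom_le_of_st_mem hF.form fun v => ?_
  have hv : v ∈ C := by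
    rw [← Finset.univ_sum_single v]
    have key : ∀ S : Finset (Fin (t + 1) → Fin k), ∑ z ∈ S, Pi.single z (v z) ∈ C := by
      intro S
      induction S using Finset.induction with
      | empty =>
        intro c
        rw [Finset.sum_empty, show st (bf (powS π (t + 1))) (0 : (Fin (t + 1) → Fin k) → F) c = 1 from
          Units.ext (by rw [st_coe hF, rk_zero_left, smul_zero, add_zero, Units.val_one])]
        exact one_mem H
      | insert z S hz ih =>
        rw [Finset.sum_insert hz, add_comm (Pi.single z (v z) : (Fin (t + 1) → Fin k) → F)]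
        have e : (Pi.single z (v z) : (Fin (t + 1) → Fin k) → F) =
            pv (Fin.cons (Pi.single (z 0) (v z)) fun i => Pi.single (z i.succ) 1) := by
          funext b
          simp only [pv, Fin.prod_univ_succ, Fin.cons_zero, Fin.cons_succ]
          by_cases hb : b = z
          · subst hb; simp
          · obtain ⟨i, hi⟩ := Function.ne_iff.mp hb
            rw [Pi.single_eq_of_ne hb]
            refine Fin.cases (fun hi => ?_) (fun i hi => ?_) i hi
            · rw [Pi.single_eq_of_ne hi, zero_mul]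
            · rw [Finset.prod_eq_zero (Finset.mem_univ i) (Pi.single_eq_of_ne hi _), mul_zero]
        rw [e]
        exact hadd _ ih _
    exact key Finset.univ
  exact hv

end Cfsg.Agent.WreathS
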