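import Cfsg.Agent.WreathS.Base
import Cfsg.Agent.WreathMax.Phi

/-!
Root elements and pure pieces of a slot for an alternating form, and the unipotent elements of the stabiliser
with square zero displacement in odd characteristic (helper56).
-/

set_option autoImplicit false
set_option linter.unusedSectionVars false

namespace Cfsg.Agent.WreathS

open Matrix Cfsg.Agent.MaxSub Cfsg.Agent.MaxSub.Asch Cfsg.Agent.FG75.SpinTensor Cfsg.Agent.WreathMax

variable {F : Type*} [Field F]

section Form

variable {ι : Type} [Fintype ι] [DecidableEq ι] (π : Sgn F ι)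

/-- The form is alternating and the characteristic is odd. -/
structure Sgn.Alt : Prop where
  tau : π.τ = -1
  two : (2 : F) ≠ 0

variable {π} (hπ : π.Alt)
include hπ

theorem Sgn.Alt.form : Geo.IsSymplecticForm (bf π) := bf_isSymplectic π hπ.tau hπ.two

theorem Sgn.Alt.self (v : ι → F) : bf π v v = 0 := hπ.form.alternating v

theorem Sgn.Alt.skew (v w : ι → F) : bf π v w = -bf π w v := hπ.form.skew v w

theorem Sgn.Alt.adj_rk' (x y : ι → F) : adj π (rk π x y) = -rk π y x := by
  rw [adj_rk, hπ.tau, neg_one_smul]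

theorem Sgn.Alt.rk_sq (x : ι → F) : rk π x x * rk π x x = 0 := by rw [rk_mul, hπ.self, zero_smul]

theorem rep_bf (y : ι → F) : MaxSub.rep (bf π) y = cv π y := funext fun a => bf_single π a y

theorem st_coe (v : ι → F) (c : F) : (st (bf π) v c : Matrix ι ι F) = 1 + c • rk π v v := by
  refine Matrix.ext_of_mulVec_single fun a => ?_
  rw [st_mulVec hπ.form, add_mulVec, one_mulVec, smul_mulVec, rk_mulVec, smul_smul]

/-- Isometries are transitive on non-zero vectors. -/
theorem exists_map {x y : ι → F} (hx : x ≠ 0) (hy : y ≠ 0) :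
    ∃ g ∈ U π, (g : Matrix ι ι F) *ᵥ x = y := by
  obtain ⟨g, hg, -, hgx⟩ := exists_mem_mulVec_eq hπ.form (M := U π) (fun v c => st_mem_isom hπ.form v c) hx hy
  exact ⟨g, hg, hgx⟩

/-- A vector dual to one of two independent orthogonal vectors. -/
theorem exists_dual {a b : ι → F} (ha : a ≠ 0) (hind : ∀ c : F, b ≠ c • a) :
    ∃ w, bf π b w = 1 ∧ bf π a w = 0 := by
  obtain ⟨z, hz⟩ := exists_right_eq_one π ha
  have hne : b - bf π b z • a ≠ 0 := fun h => hind _ (sub_eq_zero.mp h)
  obtain ⟨u, hu⟩ := exists_right_eq_one π hne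
  refine ⟨u - bf π a u • z, ?_, ?_⟩
  · rw [bf_sub_left, bf_smul_left] at hu
    rw [bf_sub_right, bf_smul_right]
    linear_combination hu
  · rw [bf_sub_right, bf_smul_right, hz, mul_one, sub_self]

end Form

variable {k t : ℕ} {π : Sgn F (Fin k)}

/-- The root element of a slot. -/
noncomputable def sRoot (π : Sgn F (Fin k)) (i : Fin t) (x : Fin k → F) (c : F) : GL (Fin t → Fin k) F :=
  slotU i (st (bf π) x c)

theorem sRoot_coe (hπ : π.Alt) (i : Fin t) (x : Fin k → F) (c : F) :
    (sRoot π i x c).val = 1 + c • slot i (rk π x x) := by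
  rw [sRoot, slotU_coe, st_coe hπ, slot_one_add, slot_smul']

theorem sRoot_mem_wreath (i : Fin t) (x : Fin k → F) (c : F) :
    sRoot π i x c ∈ Geo.tensorWreathStandard k t F := slotU_mem _ _

theorem sRoot_mem_U (hπ : π.Alt) (i : Fin t) (x : Fin k → F) (c : F) : sRoot π i x c ∈ U (powS π t) :=
  slotU_mem_U π (st_mem_isom hπ.form x c) i

theorem sRoot_mem_Ws (hπ : π.Alt) (i : Fin t) (x : Fin k → F) (c : F) : sRoot π i x c ∈ Ws π t :=
  slotU_mem_Ws π (st_mem_isom hπ.form x c) i

theorem sRoot_mem (hπ : π.Alt) {H : Subgroup (GL (Fin t → Fin k) F)} (hM : ContainsS π H) (i : Fin t)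
    (x : Fin k → F) (c : F) : sRoot π i x c ∈ H := hM.1 i _ (st_mem_isom hπ.form x c)

theorem powS_alt (hπ : π.Alt) (ht : Odd t) : (powS π t).Alt :=
  ⟨show π.τ ^ t = -1 by rw [hπ.tau, ht.neg_one_pow], hπ.two⟩

/-- The pure pieces: a root line, or the top of the self-adjoint part. -/
def Piece (π : Sgn F (Fin k)) (P : Matrix (Fin k) (Fin k) F) : Prop :=
  (∃ x, x ≠ 0 ∧ P = rk π x x) ∨
    ∃ a b, a ≠ 0 ∧ (∀ c : F, b ≠ c • a) ∧ bf π a b = 0 ∧ P = rk π b a - rk π a b

theorem Piece.sq (hπ : π.Alt) {P : Matrix (Fin k) (Fin k) F} (h : Piece π P) : P * P = 0 := by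
  rcases h with ⟨x, -, rfl⟩ | ⟨a, b, -, -, hab, rfl⟩
  · exact hπ.rk_sq x
  · simp only [mul_sub, sub_mul, rk_mul, hπ.self, hab, bf_eq_zero_comm π hab, zero_smul, sub_zero]

theorem Piece.ne_zero (hπ : π.Alt) {P : Matrix (Fin k) (Fin k) F} (h : Piece π P) : P ≠ 0 := by
  rcases h with ⟨x, hx, rfl⟩ | ⟨a, b, ha, hind, hab, rfl⟩
  · exact rk_self_ne_zero π hx
  · obtain ⟨w, hbw, haw⟩ := exists_dual hπ ha hind
    intro h0
    have h1 := congrArg (fun X => X *ᵥ w) h0
    simp only [sub_mulVec, rk_mulVec, zero_mulVec, hπ.skew w a, hπ.skew w b, hbw, haw] at h1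
    exact ha (by simpa using h1)

theorem Piece.ne_one (hπ : π.Alt) {P : Matrix (Fin k) (Fin k) F} (h : Piece π P) : P ≠ 1 := fun h1 => by
  have h2 := h.sq hπ
  rw [h1, one_mul] at h2
  exact h.ne_zero hπ (h1.trans h2)

section RootClass

theorem one_add_pow {ι : Type} [Fintype ι] [DecidableEq ι] {X : Matrix ι ι F} (h : (X - 1) * (X - 1) = 0)
    (n : ℕ) : X ^ n = 1 + n • (X - 1) := by
  induction n with
  | zero => simp
  | succ n ih =>
    rw [pow_succ, ih]
    have e : (1 + n • (X - 1)) * X = 1 + (n + 1) • (X - 1) + n • ((X - 1) * (X - 1)) := by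
      simp only [mul_sub, sub_mul, add_mul, one_mul, mul_one, smul_sub, smul_mul_assoc, add_smul, one_smul]
      abel
    rw [e, h, smul_zero, add_zero]

theorem wreath_pow (gs : Fin t → GL (Fin k) F) (σ : Equiv.Perm (Fin t)) (n : ℕ) :
    ∃ gs', (tensGL gs * factorPerm σ : GL (Fin t → Fin k) F) ^ n = tensGL gs' * factorPerm (σ ^ n) := by
  induction n with
  | zero => exact ⟨1, by rw [pow_zero, pow_zero, tensGL_one, factorPerm_one, one_mul]⟩
  | succ n ih =>
    obtain ⟨gs', e⟩ := ih
    exact ⟨gs' * fun i => gs ((σ ^ n).symm i), by rw [pow_succ, e, wreath_mul, pow_succ]⟩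

/-- In odd characteristic a unipotent element of the stabiliser with square zero displacement lies in one slot. -/
theorem slot_of_sq [Finite F] (hk : 2 ≤ k) (ht : 1 ≤ t) (two : (2 : F) ≠ 0) {h : GL (Fin t → Fin k) F}
    (hh : h ∈ Geo.tensorWreathStandard k t F) (h2 : (h.val - 1) * (h.val - 1) = 0) :
    ∃ i B, h.val = slot i B := by
  classical
  obtain ⟨gs, σ, rfl⟩ := exists_wreath_elem hh
  have hσ2 := sigma_sq_eq_one hk two h2
  obtain ⟨p, hp⟩ := CharP.exists F
  have := hp
  have hpp : p.Prime := CharP.char_is_prime F p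
  have hp2 : Odd p := hpp.odd_of_ne_two fun e => two (by subst e; exact_mod_cast CharP.cast_eq_zero F 2)
  have hσp : σ ^ p = 1 := by
    obtain ⟨gs', e⟩ := wreath_pow gs σ p
    have e1 : (tensGL gs * factorPerm σ : GL (Fin t → Fin k) F) ^ p = tensGL 1 * factorPerm 1 := by
      rw [tensGL_one, factorPerm_one, one_mul]
      refine Units.ext ?_
      rw [Units.val_pow_eq_pow_val, one_add_pow h2, Units.val_one, ← Nat.cast_smul_eq_nsmul F,
        CharP.cast_eq_zero, zero_smul, add_zero]
    exact perm_unique hk (e.symm.trans e1)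
  have hσ1 : σ = 1 := by
    obtain ⟨j, rfl⟩ := hp2
    rwa [pow_succ, pow_mul, pow_two, hσ2, one_pow, one_mul] at hσp
  subst hσ1
  rw [factorPerm_one, mul_one] at h2 ⊢
  have hv : (tensGL gs : GL (Fin t → Fin k) F).val = tens fun i => (gs i : Matrix (Fin k) (Fin k) F) := rfl
  rw [hv] at h2 ⊢
  set g : Fin t → Matrix (Fin k) (Fin k) F := fun i => (gs i : Matrix (Fin k) (Fin k) F)
  have key : ∀ i j, i ≠ j → (∀ c : F, g i ≠ c • 1) → ∃ c : F, g j = c • 1 := by
    intro i j hij hi
    obtain ⟨φ, hφ1, hφ⟩ : ∃ φ : Matrix (Fin k) (Fin k) F →ₗ[F] F, φ 1 = 0 ∧ φ (g i) ≠ 0 := by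
      by_cases hoff : ∃ a b, a ≠ b ∧ g i a b ≠ 0
      · obtain ⟨a, b, hab, hg⟩ := hoff
        exact ⟨Matrix.entryLinearMap F F a b, by simp [hab], by simpa using hg⟩
      push Not at hoff
      haveI : Nonempty (Fin k) := ⟨⟨0, by omega⟩⟩
      obtain ⟨a, b, hab⟩ : ∃ a b, g i a a ≠ g i b b := by
        by_contra hc
        push Not at hc
        refine hi (g i ⟨0, by omega⟩ ⟨0, by omega⟩) (Matrix.ext fun a b => ?_)
        rcases eq_or_ne a b with rfl | hab
        · simpa using hc a _
        · simp [hoff a b hab, hab]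
      exact ⟨Matrix.entryLinearMap F F a a - Matrix.entryLinearMap F F b b, by simp,
        by simpa [sub_eq_zero] using hab⟩
    have hne : ∀ l, g l ≠ 0 := fun l e => by
      have := Units.mul_inv (gs l)
      rw [show (gs l : Matrix (Fin k) (Fin k) F) = 0 from e, zero_mul] at this
      exact zero_ne_one (congrFun (congrFun this ⟨0, by omega⟩) ⟨0, by omega⟩ |>.trans (Matrix.one_apply_eq _))
    have hent : ∀ l, ∃ a b, g l a b ≠ 0 := fun l => by
      by_contra hc
      push Not at hc
      exact hne l (Matrix.ext hc)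
    choose A B hAB using hent
    set r := ∏ l ∈ ({i, j} : Finset (Fin t))ᶜ, g l (A l) (B l) with hr
    have hr0 : r ≠ 0 := Finset.prod_ne_zero_iff.mpr fun l _ => hAB l
    set r2 := ∏ l ∈ ({i, j} : Finset (Fin t))ᶜ, (g l * g l) (A l) (B l)
    set r0 := ∏ l ∈ ({i, j} : Finset (Fin t))ᶜ, (1 : Matrix (Fin k) (Fin k) F) (A l) (B l)
    have hentry : ∀ a b c d, r2 * ((g i * g i) a b * (g j * g j) c d) - 2 * (r * (g i a b * g j c d)) +
        r0 * ((1 : Matrix (Fin k) (Fin k) F) a b * (1 : Matrix (Fin k) (Fin k) F) c d) = 0 := by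
      intro a b c d
      let X := Function.update (Function.update A i a) j c
      let Y := Function.update (Function.update B i b) j d
      have hval : ∀ M : Fin t → Matrix (Fin k) (Fin k) F, tens M X Y =
          M i a b * M j c d * ∏ l ∈ ({i, j} : Finset (Fin t))ᶜ, M l (A l) (B l) := by
        intro M
        rw [tens_apply, ← Finset.prod_mul_prod_compl ({i, j} : Finset (Fin t)), Finset.prod_pair hij]
        congr 1
        · simp [X, Y, hij]
        · refine Finset.prod_congr rfl fun l hl => ?_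
          simp only [Finset.mem_compl, Finset.mem_insert, Finset.mem_singleton, not_or] at hl
          simp [X, Y, hl.1, hl.2]
      have e := sub_one_sq h2
      rw [tens_mul, ← tens_one] at e
      have e' := congrFun (congrFun e X) Y
      rw [Matrix.sub_apply, Matrix.add_apply, hval, hval, hval] at e'
      simp only [Pi.one_apply] at e'
      simp only [r, r2, r0] at *
      linear_combination e'
    have hlin : ∀ c d, r2 * (φ (g i * g i) * (g j * g j) c d) = 2 * (r * (φ (g i) * g j c d)) := by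
      intro c d
      have e : (r2 * (g j * g j) c d) • (g i * g i) - (2 * (r * g j c d)) • g i +
          (r0 * (1 : Matrix (Fin k) (Fin k) F) c d) • (1 : Matrix (Fin k) (Fin k) F) = 0 := by
        ext a b
        have := hentry a b c d
        simp only [Matrix.add_apply, Matrix.sub_apply, Matrix.smul_apply, Matrix.zero_apply, smul_eq_mul]
        linear_combination this
      have := congrArg φ e
      rw [map_add, map_sub, map_smul, map_smul, map_smul, map_zero, hφ1] at this
      simp only [smul_eq_mul] at this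
      linear_combination this
    have hmat : (r2 * φ (g i * g i)) • (g j * g j) = (2 * (r * φ (g i))) • g j := by
      ext c d
      simp only [Matrix.smul_apply, smul_eq_mul]
      linear_combination hlin c d
    have hc0 : 2 * (r * φ (g i)) ≠ 0 := mul_ne_zero two (mul_ne_zero hr0 hφ)
    have h1 := congrArg (fun M => ((gs j)⁻¹ : GL (Fin k) F).val * M) hmat
    simp only [g, mul_smul_comm, Units.inv_mul, Units.inv_mul_cancel_left] at h1
    refine ⟨(2 * (r * φ (g i))) * (r2 * φ (g i * g i))⁻¹, ?_⟩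
    have hd0 : r2 * φ (g i * g i) ≠ 0 := fun e => by
      rw [show r2 * φ ((gs i).val * (gs i).val) = 0 from e, zero_smul] at h1
      haveI : Nonempty (Fin k) := ⟨⟨0, by omega⟩⟩
      exact (one_ne_zero : (1 : Matrix (Fin k) (Fin k) F) ≠ 0) ((smul_eq_zero.mp h1.symm).resolve_left hc0)
    rw [mul_comm, ← smul_smul, ← h1, inv_smul_smul₀ hd0]
  by_cases hall : ∀ l, ∃ c : F, g l = c • 1
  · choose c hc using hall
    refine ⟨⟨0, ht⟩, (∏ l, c l) • 1, ?_⟩
    rw [funext hc, tens_smul, slot_smul', slot_one']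
    congr 1
    exact tens_one
  push Not at hall
  obtain ⟨i, hi⟩ := hall
  choose c hc using fun j (hj : i ≠ j) => key i j hj hi
  let c' : Fin t → F := fun j => if hj : i = j then 1 else c j hj
  refine ⟨i, (∏ l, c' l) • g i, ?_⟩
  rw [slot_smul', slot, ← tens_smul]
  congr 1
  funext j
  by_cases hj : i = j
  · subst hj; simp [c']
  · simp [c', hj, Ne.symm hj, hc j hj]

/-- A slot root inside the isometry group. -/
theorem exists_sRoot (hπ : π.Alt) (hk : 0 < k) {g : GL (Fin t → Fin k) F} (hg : g ∈ U (powS π t)) {i : Fin t}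
    {B : Matrix (Fin k) (Fin k) F} (hB : IsRootNil B) (e : g.val = 1 + slot i B) :
    ∃ y c, y ≠ 0 ∧ c ≠ 0 ∧ g = sRoot π i y c := by
  have h1 := (mem_U_iff _).mp hg
  rw [e, adj_add, adj_one, adj_slot] at h1
  simp only [add_mul, mul_add, one_mul, mul_one, ← slot_mul', add_assoc, add_eq_left] at h1
  rw [← slot_add', ← slot_add', ← slot_zero' (F := F) i] at h1
  have h2 := slot_injective hk i h1
  have h3 : adj π B * B = 0 := by
    have h4 := congrArg (fun X => X * B) h2
    simp only [add_mul, zero_mul, mul_assoc, hB.2, mul_zero, add_zero] at h4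
    exact h4
  rw [h3, add_zero] at h2
  obtain ⟨x, y', hx, hy', hxy, rfl⟩ := hB.exists_vecMulVec
  let y : Fin k → F := fun a => π.ε (π.J a) * y' (π.J a)
  have hy : cv π y = y' := funext fun b => by
    simp only [cv, y, π.inv]
    rw [← mul_assoc, π.ε_sq, one_mul]
  have hrk : vecMulVec x y' = rk π x y := by rw [rk, hy]
  rw [hrk] at h2 e
  rw [hπ.adj_rk', add_comm] at h2
  have hsym : rk π y x = rk π x y := eq_of_sub_eq_zero (by rw [← h2]; abel) |>.symm
  obtain ⟨z, hz⟩ := exists_left_ne π hx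
  have h5 := congrArg (fun X => X *ᵥ z) hsym
  simp only [rk_mulVec] at h5
  have hyx : y = (bf π z y / bf π z x) • x := by
    rw [div_eq_inv_mul, ← smul_smul, ← h5, inv_smul_smul₀ hz]
  set d := bf π z y / bf π z x
  refine ⟨x, d, hx, fun h0 => hy' ?_, Units.ext ?_⟩
  · rw [← hy, hyx, h0, zero_smul, cv_zero]
  · rw [sRoot_coe hπ, e, hyx, rk_smul_right, slot_smul']

/-- An element of the stabiliser conjugate to a slot root is a slot root. -/
theorem root_image [Finite F] (hπ : π.Alt) (hk : 2 ≤ k) (ht : 1 ≤ t) {g : GL (Fin t → Fin k) F}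
    {i : Fin t} {x : Fin k → F} {c : F} (hx : x ≠ 0) (hc : c ≠ 0)
    (hgW : g * sRoot π i x c * g⁻¹ ∈ Geo.tensorWreathStandard k t F)
    (hgU : g * sRoot π i x c * g⁻¹ ∈ U (powS π t)) :
    ∃ j y d, y ≠ 0 ∧ d ≠ 0 ∧ g * sRoot π i x c * g⁻¹ = sRoot π j y d := by
  set w := g * sRoot π i x c * g⁻¹ with hw
  have hN : w.val - 1 = g.val * (c • slot i (rk π x x)) * (g⁻¹).val := by
    rw [hw, Units.val_mul, Units.val_mul, sRoot_coe hπ, mul_add, mul_one, add_mul, Units.mul_inv,
      add_sub_cancel_left]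
  have h2 : (w.val - 1) * (w.val - 1) = 0 := by
    rw [hN]
    simp only [mul_assoc, Units.inv_mul_cancel_left]
    rw [← mul_assoc (c • slot i (rk π x x)), smul_mul_smul_comm, ← slot_mul', hπ.rk_sq, slot_zero', smul_zero,
      zero_mul, mul_zero]
  obtain ⟨j, B, hB⟩ := slot_of_sq hk ht hπ.two hgW h2
  have hd : w.val - 1 = slot j (B - 1) := by rw [hB, slot_sub', slot_one']
  have hsq : (B - 1) * (B - 1) = 0 := slot_injective (by omega) j (by rw [slot_mul', slot_zero', ← hd, h2])
  have hrank : (B - 1).rank = 1 := by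
    have h1 := ClMax99.TensorRank.rank_conj g (c • slot i (rk π x x)) 0
    rw [zero_smul, sub_zero, sub_zero, ← hN, hd, ← slot_smul', rank_slot, rank_slot] at h1
    have h3 : (B - 1).rank = (c • rk π x x).rank := Nat.eq_of_mul_eq_mul_left (pow_pos (by omega) _) h1
    rw [h3]
    have hne : c • rk π x x ≠ 0 := smul_ne_zero hc (rk_self_ne_zero π hx)
    refine le_antisymm ?_ ?_
    · rw [rk, ← smul_vecMulVec]; exact rank_vecMulVec_le _ _
    · rw [Nat.one_le_iff_ne_zero]
      intro h0
      rw [ClMax99.TensorRank.rank_eq, Submodule.finrank_eq_zero, LinearMap.range_eq_bot] at h0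
      exact hne (Matrix.toLin'.injective (h0.trans (map_zero _).symm))
  obtain ⟨y, d, hy, hd0, e⟩ := exists_sRoot hπ (by omega) hgU ⟨hrank, hsq⟩ (by rw [← hd, add_sub_cancel])
  exact ⟨j, y, d, hy, hd0, e⟩

end RootClass

end Cfsg.Agent.WreathS
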